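import Cfsg.Agent.H36.SLFiveHeis.Central
import Cfsg.Agent.H1.HeisThree.Base

/-!
A subgroup containing the normaliser of `5^(1+2)` normalises it or is the special linear group.
-/

set_option autoImplicit false

namespace Cfsg.Agent.H36.SLFiveHeis

open Matrix
open Cfsg.Agent.H1.HeisThree (sc scGrp coe_sc sc_mul sc_one sc_inj sc_comm conj_sc_mul inverts_of_fixed_point_free)

namespace Penta

variable {F : Type*} [Field F] [Fintype F] {p : ℕ} (C : Penta F)

local notation "T5" => ZMod 5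
local notation "V" => ZMod 5 × ZMod 5
local notation "M5" => Matrix (ZMod 5) (ZMod 5) F
local notation "G5" => GL (ZMod 5) F

set_option maxHeartbeats 1000000 in
theorem base (hp : p.Prime) (hF : Fintype.card F = p) (hp7 : 7 ≤ p) {M : Subgroup G5}
    (hM : C.ContainsN M) : (∀ g ∈ M, C.Normalises g) ∨ ∀ g : G5, (g : M5).det = 1 → g ∈ M := by
  classical
  refine or_iff_not_imp_right.2 fun hno => ?_
  obtain ⟨hinvol, hodd⟩ := C.central_facts hM hp hF hp7 hno
  have hne : C.flip ≠ 1 := fun h => by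
    have := congrArg (fun g : G5 => (g : M5) 1 1) h
    simp (config := {decide := true}) [coe_flip] at this
  let u : M := ⟨C.flip, hM.flip⟩
  have hord : orderOf u = 2 :=
    orderOf_eq_prime (Subtype.ext (show C.flip ^ 2 = 1 by rw [pow_two, C.flip_mul_flip]))
      (fun h => hne (congrArg Subtype.val h))
  have hiso : Cfsg.IsIsolatedInvolution u := by
    refine ⟨hord, fun g hg => Subtype.ext ?_⟩
    set x : G5 := (g : G5) * C.flip * (g : G5)⁻¹ with hx
    have hxH : x ∈ C.Hf M :=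
      mem_Hf (congrArg Subtype.val hg.eq).symm (Subgroup.mul_mem _ (Subgroup.mul_mem _ g.2 hM.flip) (Subgroup.inv_mem _ g.2))
    rcases hinvol ⟨x, hxH⟩ (Subtype.ext (show x * x = 1 by
      rw [hx, show (g : G5) * C.flip * (g : G5)⁻¹ * ((g : G5) * C.flip * (g : G5)⁻¹)
        = (g : G5) * (C.flip * C.flip) * (g : G5)⁻¹ by group, C.flip_mul_flip, mul_one, mul_inv_cancel]))
      with h | h
    · exact absurd (conj_eq_one_iff.1 (show (g : G5) * C.flip * (g : G5)⁻¹ = 1 from h)) hne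
    · exact h
  have hz := Cores.zStarProp (Cores.uniqueInvolutionCase Cores.quaternionCase) M u hiso
  set O : Subgroup G5 := (Cfsg.oddCore M).map M.subtype with hO
  have hOM : O ≤ M := Subgroup.map_subtype_le _
  have hOodd : ∀ o ∈ O, Odd (orderOf o) := by
    rintro _ ⟨o, ho, rfl⟩
    rw [Subgroup.coe_subtype, Subgroup.orderOf_coe]
    exact (Cores.odd_card_oddCore (G := M)).of_dvd_nat (Subgroup.orderOf_dvd_natCard _ ho)
  have hOnorm : ∀ g ∈ M, ∀ o ∈ O, g * o * g⁻¹ ∈ O := by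
    rintro g hg _ ⟨o, ho, rfl⟩
    exact ⟨⟨g, hg⟩ * o * ⟨g, hg⟩⁻¹, (inferInstance : (Cfsg.oddCore M).Normal).conj_mem o ho _, rfl⟩
  have hcomO : ∀ g ∈ M, C.flip * g * C.flip * g⁻¹ ∈ O := by
    intro g hg
    exact ⟨_, hz ⟨g, hg⟩, by simp [u, C.flip_inv]⟩
  have hOH : ∀ o ∈ O, o * C.flip = C.flip * o → ∃ c : Fˣ, o = sc c := by
    intro o ho hoc
    let L : Subgroup (C.Hf M) := O.comap (C.Hf M).subtype
    have hL : L.Normal := ⟨fun l hl g => hOnorm _ (C.mem_M g) _ hl⟩
    have hLodd : ∀ l ∈ L, Odd (orderOf l) := fun l hl => by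
      rw [← Subgroup.orderOf_coe]; exact hOodd _ hl
    exact hodd L hL hLodd ⟨o, mem_Hf hoc (hOM ho)⟩ ho
  let π : G5 →* G5 ⧸ scGrp F T5 := QuotientGroup.mk' _
  have hπ : ∀ {a b : G5}, π a = π b → ∃ c : Fˣ, a = sc c * b := by
    intro a b h
    have h1 : π (a * b⁻¹) = 1 := by rw [map_mul, map_inv, h, mul_inv_cancel]
    obtain ⟨c, hc⟩ := (QuotientGroup.eq_one_iff _).1 h1
    exact ⟨c, by rw [show sc c = a * b⁻¹ from hc, inv_mul_cancel_right]⟩
  have hπsc : ∀ c : Fˣ, π (sc c) = 1 := fun c => (QuotientGroup.eq_one_iff _).2 ⟨c, rfl⟩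
  set Q := O.map π
  have hconj : ∀ q ∈ Q, π C.flip * q * π C.flip ∈ Q := by
    rintro _ ⟨o, ho, rfl⟩
    rw [← map_mul, ← map_mul]
    refine Subgroup.mem_map_of_mem π ?_
    have := hOnorm _ hM.flip o ho
    rwa [C.flip_inv] at this
  have hπ2 : π C.flip * π C.flip = 1 := by rw [← map_mul, C.flip_mul_flip, map_one]
  let f : Q →* Q :=
    { toFun := fun q => ⟨_, hconj q q.2⟩
      map_one' := Subtype.ext (by show π C.flip * 1 * π C.flip = 1; rw [mul_one, hπ2])
      map_mul' := fun a b => Subtype.ext (by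
        show π C.flip * ((a : G5 ⧸ scGrp F T5) * b) * π C.flip =
          π C.flip * (a : G5 ⧸ scGrp F T5) * π C.flip * (π C.flip * (b : G5 ⧸ scGrp F T5) * π C.flip)
        rw [show π C.flip * (a : G5 ⧸ scGrp F T5) * π C.flip * (π C.flip * (b : G5 ⧸ scGrp F T5) * π C.flip)
          = π C.flip * (a : G5 ⧸ scGrp F T5) * (π C.flip * π C.flip) * (b : G5 ⧸ scGrp F T5) * π C.flip by group,
          hπ2, mul_one, ← mul_assoc]) }
  have hinv : ∀ q : Q, f q = q⁻¹ := by
    refine inverts_of_fixed_point_free f (fun q => Subtype.ext ?_) ?_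
    · show π C.flip * (π C.flip * (q : G5 ⧸ _) * π C.flip) * π C.flip = (q : G5 ⧸ scGrp F T5)
      rw [show π C.flip * (π C.flip * (q : G5 ⧸ scGrp F T5) * π C.flip) * π C.flip
        = (π C.flip * π C.flip) * (q : G5 ⧸ scGrp F T5) * (π C.flip * π C.flip) by group, hπ2, one_mul, mul_one]
    · rintro ⟨_, o, ho, rfl⟩ h
      have h' : π C.flip * π o * π C.flip = π o := congrArg Subtype.val h
      rw [← map_mul, ← map_mul] at h'
      obtain ⟨c, hc⟩ := hπ h'
      have hcO : sc c ∈ O := by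
        have := hcomO o (hOM ho)
        rwa [hc, mul_inv_cancel_right] at this
      have hc2 : (sc c : G5) * sc c = 1 := by
        have e1 : sc c * (sc c * o) = o := by
          rw [← hc, show sc c * (C.flip * o * C.flip) = C.flip * (sc c * o) * C.flip by
            rw [← mul_assoc, ← mul_assoc, sc_comm c C.flip]; group, ← hc,
            show C.flip * (C.flip * o * C.flip) * C.flip = (C.flip * C.flip) * o * (C.flip * C.flip) by group,
            C.flip_mul_flip, one_mul, mul_one]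
        rwa [← mul_assoc, mul_eq_right] at e1
      have hc1 : (sc c : G5) = 1 := Cores.eq_one_of_sq_of_odd (hOodd _ hcO) (by rw [pow_two, hc2])
      rw [hc1, one_mul] at hc
      obtain ⟨d, hd⟩ := hOH o ho (by
        nth_rw 1 [← hc]
        rw [mul_assoc (C.flip * o), C.flip_mul_flip, mul_one])
      exact Subtype.ext (by show π o = 1; rw [hd, hπsc])
  have habel : ∀ a ∈ O, ∀ b ∈ O, π a * π b = π b * π a := by
    intro a ha b hb
    let qa : Q := ⟨_, Subgroup.mem_map_of_mem π ha⟩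
    let qb : Q := ⟨_, Subgroup.mem_map_of_mem π hb⟩
    have h1 := map_mul f qa qb
    rw [hinv, hinv, hinv, ← _root_.mul_inv_rev, _root_.inv_inj] at h1
    exact congrArg Subtype.val h1
  have hWmul : ∀ v w : V, π (C.W v) * π (C.W w) = π (C.W (v + w)) := fun v w => by
    rw [← map_mul, C.W_mul, map_mul, hπsc, one_mul]
  have hWinv : ∀ v : V, (π (C.W v))⁻¹ = π (C.W (-v)) := fun v =>
    inv_eq_of_mul_eq_one_right (by rw [hWmul, add_neg_cancel, C.W_zero, map_one])
  have hWQ : ∀ v : V, ∃ o ∈ O, π o = π (C.W v) := by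
    intro v
    refine ⟨_, hcomO _ (hM.W (v + v)), ?_⟩
    rw [C.flip_W, mul_assoc (C.W (-(v + v))), C.flip_mul_flip, mul_one, map_mul, map_inv, hWinv, hWmul]
    congr 2
    revert v
    decide
  have hOR : ∀ o ∈ O, C.InR o := by
    intro o ho
    refine C.inR_of_fix fun v => ?_
    obtain ⟨w, hw, hwv⟩ := hWQ v
    refine hπ (a := o * C.W v * o⁻¹) ?_
    rw [map_mul, map_mul, map_inv, ← hwv, habel o ho w hw, mul_inv_cancel_right, hwv]; rfl
  intro g hg v
  obtain ⟨o, ho, hov⟩ := hWQ v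
  obtain ⟨c, hc⟩ := hπ hov.symm
  obtain ⟨d, w, hd⟩ := hOR _ (hOnorm g hg o ho)
  exact ⟨c * d, w, by rw [hc, conj_sc_mul, hd, ← mul_assoc, ← sc_mul]⟩

end Penta

end Cfsg.Agent.H36.SLFiveHeis
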