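import Cfsg.Agent.H36.SLFiveHeis.Model
import Cfsg.Agent.Linear.Dickson.Main

/-!
The centraliser of the diagonal element: a non-monomial block gives the special linear group.
-/

set_option autoImplicit false

namespace Cfsg.Agent.H36.SLFiveHeis

open Matrix
open Cfsg.Agent.H1.HeisThree (charP_of_card exists_natCast exists_proj small_of_not_dvd exists_low_of_dvd
  exists_order_p_of_dvd coe_pow_one_add)

section Two

variable {F : Type*} [Field F] [Fintype F] {p : ℕ}

local notation "M2" => Matrix (Fin 2) (Fin 2) F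
local notation "G2" => GL (Fin 2) F

omit [Fintype F] in
theorem low_mul (a b : F) : (!![1, 0; a, 1] : M2) * !![1, 0; b, 1] = !![1, 0; a + b, 1] := by
  ext i j
  fin_cases i <;> fin_cases j <;> simp [Matrix.mul_apply, Fin.sum_univ_two]

omit [Fintype F] in
theorem coe_pow_low {x : G2} {t : F} (hx : (x : M2) = !![1, 0; t, 1]) (n : ℕ) :
    ((x ^ n : G2) : M2) = !![1, 0; n * t, 1] := by
  induction n with
  | zero => ext i j; fin_cases i <;> fin_cases j <;> simp
  | succ n ih => rw [pow_succ, Units.val_mul, ih, hx, low_mul]; push_cast; ring_nf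

/-- All lower elementary matrices from one. -/
theorem low_all (hp : p.Prime) (hF : Fintype.card F = p) {G : Subgroup G2} {t : F} (ht : t ≠ 0) {x : G2}
    (hxG : x ∈ G) (hx : (x : M2) = !![1, 0; t, 1]) (s : F) :
    ∃ y ∈ G, (y : M2) = !![1, 0; s, 1] := by
  obtain ⟨n, hn⟩ := exists_natCast hp hF (s / t)
  exact ⟨x ^ n, pow_mem hxG n, by rw [coe_pow_low hx, hn, div_mul_cancel₀ s ht]⟩

omit [Fintype F] in
/-- Upper elementary matrices from lower ones and the swap. -/
theorem up_of_low {G : Subgroup G2} {J y : G2} (hJ : J ∈ G) (hJm : (J : M2) = !![0, 1; 1, 0]) (hy : y ∈ G)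
    {s : F} (hym : (y : M2) = !![1, 0; s, 1]) : ∃ z ∈ G, (z : M2) = !![1, s; 0, 1] := by
  refine ⟨J * y * J, mul_mem (mul_mem hJ hy) hJ, ?_⟩
  rw [Units.val_mul, Units.val_mul, hJm, hym]
  ext i j
  fin_cases i <;> fin_cases j <;> simp [Matrix.mul_apply, Fin.sum_univ_two]

omit [Fintype F] in
/-- The commutator of an element with vanishing corner, a diagonal and an elementary matrix. -/
theorem comm_low {z D L : G2} {a : F} (hz : (z : M2) 0 0 = 0) (ha0 : a ≠ 0)
    (hDm : (D : M2) = !![a, 0; 0, a⁻¹]) (hLm : (L : M2) = !![1, 0; 1, 1]) :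
    (((z * D * z⁻¹ * D⁻¹) * L * (z * D * z⁻¹ * D⁻¹)⁻¹ * L⁻¹ : G2) : M2) = !![1, 0; a ^ 4 - 1, 1] := by
  have hai : a⁻¹ ≠ 0 := inv_ne_zero ha0
  have hbc : (z : M2) 0 1 ≠ 0 ∧ (z : M2) 1 0 ≠ 0 := by
    have := Matrix.isUnits_det_units z
    rw [Matrix.det_fin_two, hz, zero_mul, zero_sub, isUnit_iff_ne_zero, neg_ne_zero] at this
    exact mul_ne_zero_iff.1 this
  generalize hY : z * D * z⁻¹ * D⁻¹ = Y
  have h1 : (Y : M2) * ((D : M2) * (z : M2)) = (z : M2) * (D : M2) := by
    rw [← hY, ← Units.val_mul, ← Units.val_mul, ← Units.val_mul]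
    congr 1
    group
  rw [hDm] at h1
  generalize (z : M2) = B at h1 hz hbc
  generalize hA : (Y : M2) = A at h1
  have e00 := congrFun (congrFun h1 0) 0
  have e01 := congrFun (congrFun h1 0) 1
  have e10 := congrFun (congrFun h1 1) 0
  simp only [Matrix.mul_apply, Fin.sum_univ_two, Matrix.of_apply, Matrix.cons_val', Matrix.cons_val_zero,
    Matrix.cons_val_one, Matrix.empty_val', Matrix.cons_val_fin_one, hz, mul_zero, zero_mul, add_zero,
    zero_add] at e00 e01 e10
  have g01 : A 0 1 = 0 := by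
    have : A 0 1 * (a⁻¹ * B 1 0) = 0 := by linear_combination e00
    exact (mul_eq_zero.1 this).resolve_right (mul_ne_zero hai hbc.2)
  have g11 : A 1 1 = a ^ 2 := by
    refine mul_right_cancel₀ (mul_ne_zero hai hbc.2) ?_
    linear_combination e10 - B 1 0 * a * mul_inv_cancel₀ ha0
  have g00 : A 0 0 = (a⁻¹) ^ 2 := by
    refine mul_right_cancel₀ (mul_ne_zero ha0 hbc.1) ?_
    rw [g01] at e01
    linear_combination e01 - B 0 1 * a⁻¹ * mul_inv_cancel₀ ha0
  have h2 : ((Y * L * Y⁻¹ * L⁻¹ : G2) : M2) * ((L : M2) * (Y : M2)) = (Y : M2) * (L : M2) := by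
    rw [← Units.val_mul, ← Units.val_mul, ← Units.val_mul]
    congr 1
    group
  have h3 : (!![1, 0; a ^ 4 - 1, 1] : M2) * ((L : M2) * (Y : M2)) = (Y : M2) * (L : M2) := by
    rw [hLm, hA, Matrix.eta_fin_two A, g00, g01, g11, Matrix.mul_fin_two, Matrix.mul_fin_two, Matrix.mul_fin_two]
    ext i j
    fin_cases i <;> fin_cases j <;> simp <;> field_simp <;> ring
  rw [← Units.val_mul L Y] at h2 h3
  exact ((L * Y).isUnit.mul_left_inj).1 (h2.trans h3.symm)

omit [Fintype F] in
/-- A non-scalar element of a group normalised by the elementary matrices gives an elementary one. -/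
theorem low_of_nonscalar {K G : Subgroup G2} (hn : ∀ g ∈ G, ∀ h ∈ K, g * h * g⁻¹ ∈ K)
    (hlow : ∀ s : F, ∃ y ∈ G, (y : M2) = !![1, 0; s, 1]) {J D : G2} (hJ : J ∈ G)
    (hJm : (J : M2) = !![0, 1; 1, 0]) (hD : D ∈ G) {a : F} (hDm : (D : M2) = !![a, 0; 0, a⁻¹])
    (ha : a ^ 4 ≠ 1) {z : G2} (hz : z ∈ K) (hns : ¬ ∃ c : F, (z : M2) = c • 1) :
    ∃ t : F, t ≠ 0 ∧ ∃ y ∈ K, (y : M2) = !![1, 0; t, 1] := by
  have ha0 : a ≠ 0 := by
    rintro rfl
    have := Matrix.isUnits_det_units D
    rw [hDm] at this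
    simp [Matrix.det_fin_two] at this
  have comm : ∀ g ∈ G, ∀ h ∈ K, h * g * h⁻¹ * g⁻¹ ∈ K := fun g hg h hh => by
    rw [show h * g * h⁻¹ * g⁻¹ = h * (g * h⁻¹ * g⁻¹) by group]
    exact mul_mem hh (hn g hg _ (inv_mem hh))
  -- the case of a nonzero lower entry
  have main : ∀ z ∈ K, (z : M2) 1 0 ≠ 0 → ∃ t : F, t ≠ 0 ∧ ∃ y ∈ K, (y : M2) = !![1, 0; t, 1] := by
    intro z hz hc
    set s := -(z : M2) 0 0 / (z : M2) 1 0 with hs
    obtain ⟨y, hy, hym⟩ := hlow s
    obtain ⟨U, hU, hUm⟩ := up_of_low hJ hJm hy hym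
    set z' := U * z * U⁻¹ with hz'
    have hzK : z' ∈ K := hn U hU z hz
    have hUi : ((U⁻¹ : G2) : M2) = !![1, -s; 0, 1] := by
      apply Units.inv_eq_of_mul_eq_one_left
      rw [hUm]
      ext i j
      fin_cases i <;> fin_cases j <;> simp [Matrix.mul_apply, Fin.sum_univ_two]
    have h00 : (z' : M2) 0 0 = 0 := by
      rw [hz', Units.val_mul, Units.val_mul, hUm, hUi, Matrix.eta_fin_two (z : M2), Matrix.mul_fin_two,
        Matrix.mul_fin_two]
      show (1 * (z : M2) 0 0 + s * (z : M2) 1 0) * 1 + (1 * (z : M2) 0 1 + s * (z : M2) 1 1) * 0 = 0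
      rw [hs, div_mul_cancel₀ _ hc]
      ring
    obtain ⟨L, hL, hLm⟩ := hlow 1
    exact ⟨a ^ 4 - 1, sub_ne_zero.2 ha, _, comm L hL _ (comm D hD z' hzK),
      comm_low h00 ha0 hDm hLm⟩
  by_cases hc : (z : M2) 1 0 = 0
  swap
  · exact main z hz hc
  by_cases hb : (z : M2) 0 1 = 0
  swap
  · refine main _ (hn J hJ z hz) ?_
    have hJi : ((J⁻¹ : G2) : M2) = !![0, 1; 1, 0] := by
      apply Units.inv_eq_of_mul_eq_one_left
      rw [hJm]
      ext i j
      fin_cases i <;> fin_cases j <;> simp [Matrix.mul_apply, Fin.sum_univ_two]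
    rw [Units.val_mul, Units.val_mul, hJm, hJi, Matrix.eta_fin_two (z : M2), Matrix.mul_fin_two,
      Matrix.mul_fin_two]
    simpa using hb
  obtain ⟨L, hL, hLm⟩ := hlow 1
  set α := (z : M2) 0 0 with hα
  set δ := (z : M2) 1 1 with hδ
  have hzm : (z : M2) = !![α, 0; 0, δ] := by
    ext i j; fin_cases i <;> fin_cases j <;> simp [hα, hδ, hb, hc]
  have hα0 : α ≠ 0 := by
    intro h
    have := Matrix.isUnits_det_units z
    rw [hzm, h] at this
    simp [Matrix.det_fin_two] at this
  have hne : δ / α - 1 ≠ 0 := by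
    rw [sub_ne_zero, ne_eq, div_eq_one_iff_eq hα0]
    intro h
    refine hns ⟨α, ?_⟩
    rw [hzm, h]
    ext i j; fin_cases i <;> fin_cases j <;> simp
  refine ⟨δ / α - 1, hne, z * L * z⁻¹ * L⁻¹, comm L hL z hz, ?_⟩
  have h1 : ((z * L * z⁻¹ * L⁻¹ : G2) : M2) * (L : M2) * (z : M2) = (z : M2) * (L : M2) := by
    rw [← Units.val_mul, ← Units.val_mul, ← Units.val_mul]
    congr 1
    group
  have h2 : (!![1, 0; δ / α - 1, 1] : M2) * (L : M2) * (z : M2) = (z : M2) * (L : M2) := by
    rw [hLm, hzm]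
    ext i j
    fin_cases i <;> fin_cases j <;> simp [Matrix.mul_apply, Fin.sum_univ_two]
    field_simp
  rw [Matrix.mul_assoc, ← Units.val_mul L z] at h1 h2
  exact ((L * z).isUnit.mul_left_inj).1 (h1.trans h2.symm)

omit [Fintype F] in
/-- The square of a nilpotent matrix of degree two vanishes. -/
theorem sq_zero_of_nilpotent {N : M2} (hN : IsNilpotent N) : N * N = 0 := by
  have htr : N 0 0 + N 1 1 = 0 := by
    have := (Matrix.isNilpotent_trace_of_isNilpotent hN).eq_zero
    rwa [Matrix.trace_fin_two] at this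
  have hdet : N 0 0 * N 1 1 - N 0 1 * N 1 0 = 0 := by
    obtain ⟨n, hn⟩ := hN
    have := congrArg Matrix.det hn
    rw [Matrix.det_pow, Matrix.det_zero] at this
    rw [← Matrix.det_fin_two]
    exact eq_zero_of_pow_eq_zero this
  ext i k
  fin_cases i <;> fin_cases k <;> simp [Matrix.mul_apply, Fin.sum_univ_two]
  · linear_combination N 0 0 * htr - hdet
  · linear_combination N 0 1 * htr
  · linear_combination N 1 0 * htr
  · linear_combination N 1 1 * htr - hdet

set_option synthInstance.maxSize 4000 in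
set_option synthInstance.maxHeartbeats 400000 in
/-- An element of order five inverted by an involution which is a power of a larger element. -/
theorem no_flip_five {G : Type*} [Group G] (hG : H1.HeisThree.Small G) {w b d : G} (hw : w ≠ 1)
    (hw5 : w ^ 5 = 1) (hb : b * b = 1) (hbw : b * w * b⁻¹ = w⁻¹) (hdb : d * b = b * d)
    (hd : d * d ≠ 1) (hbd : b ∈ Subgroup.zpowers d) : False := by
  have hww : w * w ≠ 1 := fun h => hw (by
    calc w = w * ((w * w) * (w * w)) := by rw [h, mul_one, mul_one]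
      _ = w ^ 5 := by simp only [pow_succ, pow_zero, one_mul, mul_assoc]
      _ = 1 := hw5)
  have hb1 : b ≠ 1 := fun h => hww (by
    subst h
    simp only [one_mul, inv_one, mul_one] at hbw
    nth_rw 1 [hbw]
    exact inv_mul_cancel w)
  rcases hG with ⟨A, hA, hout⟩ | ⟨⟨e⟩⟩ | ⟨⟨e⟩⟩ | ⟨⟨e⟩⟩
  · have hwA : w ∈ A := by_contra fun h => hww (hout w h).1
    have hbA : b ∉ A := fun h => hww (by
      have := hA b h w hwA
      rw [this, mul_inv_cancel_right] at hbw
      nth_rw 1 [hbw]
      exact inv_mul_cancel w)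
    have hdA : d ∈ A := by_contra fun h => hd (hout d h).1
    exact hbA ((Subgroup.zpowers_le.2 hdA) hbd)
  · have h : ∀ w : alternatingGroup (Fin 4), w ^ 5 = 1 → w = 1 := by decide +kernel
    exact hw (e.injective (by rw [map_one]; exact h _ (by rw [← map_pow, hw5, map_one])))
  · have h : ∀ w : Equiv.Perm (Fin 4), w ^ 5 = 1 → w = 1 := by decide +kernel
    exact hw (e.injective (by rw [map_one]; exact h _ (by rw [← map_pow, hw5, map_one])))
  · have h : ∀ b d : alternatingGroup (Fin 5), b * b = 1 → b ≠ 1 → d * b = b * d → d * d = 1 := by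
      decide +kernel
    refine hd (e.injective ?_)
    rw [map_mul, map_one]
    exact h (e b) (e d) (by rw [← map_mul, hb, map_one]) (fun h => hb1 (e.injective (by rw [h, map_one])))
      (by rw [← map_mul, ← map_mul, hdb])

omit [Fintype F] in
/-- Powers of a symmetric matrix. -/
theorem coe_pow_circ (h2 : (2 : F) ≠ 0) {x : G2} {a b : F} (hx : (x : M2) = !![a, b; b, a]) (n : ℕ) :
    ((x ^ n : G2) : M2) = !![((a + b) ^ n + (a - b) ^ n) / 2, ((a + b) ^ n - (a - b) ^ n) / 2;
      ((a + b) ^ n - (a - b) ^ n) / 2, ((a + b) ^ n + (a - b) ^ n) / 2] := by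
  induction n with
  | zero =>
    rw [pow_zero, Units.val_one, pow_zero, pow_zero, one_add_one_eq_two, div_self h2, sub_self, zero_div]
    exact Matrix.one_fin_two
  | succ n ih =>
    rw [pow_succ, Units.val_mul, ih, hx]
    ext i j
    fin_cases i <;> fin_cases j <;> simp [Matrix.mul_apply, Fin.sum_univ_two] <;> field_simp <;> ring

end Two

theorem ne_neg : ∀ {k : ZMod 5}, k ≠ 0 → k ≠ -k := by decide

theorem two_mul_ne : ∀ {k : ZMod 5}, k ≠ 0 → 2 * k ≠ 0 := by decide

namespace Penta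

variable {F : Type*} [Field F] {p : ℕ} (C : Penta F)

local notation "T5" => ZMod 5
local notation "M5" => Matrix (ZMod 5) (ZMod 5) F
local notation "G5" => GL (ZMod 5) F
local notation "M2" => Matrix (Fin 2) (Fin 2) F
local notation "G2" => GL (Fin 2) F

/-- The centraliser of the diagonal element in `M`. -/
def St (M : Subgroup G5) : Subgroup G5 := Subgroup.centralizer ({C.u} : Set G5) ⊓ M

theorem eq_zero_of_comm {g : G5} (h : g * C.u = C.u * g) (i j : T5) (hij : i * i ≠ j * j) :
    (g : M5) i j = 0 := by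
  have := congrArg (fun x : G5 => (x : M5) i j) h
  simp only [Units.val_mul, coe_u, Matrix.mul_diagonal, Matrix.diagonal_mul] at this
  have h' : (g : M5) i j * (C.ch (j * j) - C.ch (i * i)) = 0 := by linear_combination this
  exact (mul_eq_zero.1 h').resolve_right (sub_ne_zero.2 fun e => hij (C.ch_inj e).symm)

theorem St_comm {M : Subgroup G5} (g : C.St M) : (g : G5) * C.u = C.u * g :=
  Subgroup.mem_centralizer_singleton_iff.1 (Subgroup.mem_inf.1 g.2).1

theorem St_zero {M : Subgroup G5} (g : C.St M) (i j : T5) (h1 : j ≠ i) (h2 : j ≠ -i) :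
    ((g : G5) : M5) i j = 0 :=
  C.eq_zero_of_comm (C.St_comm g) i j
    ((by decide : ∀ i j : T5, j ≠ i → j ≠ -i → i * i ≠ j * j) i j h1 h2)

/-- The block at `±k`. -/
def bMat (k : T5) (g : M5) : M2 := !![g k k, g k (-k); g (-k) k, g (-k) (-k)]

theorem St_mul_apply {M : Subgroup G5} (g h : C.St M) {k : T5} (hk : k ≠ 0) (i j : T5) (hi : i = k ∨ i = -k) :
    (((g * h : C.St M) : G5) : M5) i j =
      ((g : G5) : M5) i k * ((h : G5) : M5) k j + ((g : G5) : M5) i (-k) * ((h : G5) : M5) (-k) j := by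
  rw [Subgroup.coe_mul, Units.val_mul, Matrix.mul_apply,
    ← Finset.sum_pair (f := fun x => ((g : G5) : M5) i x * ((h : G5) : M5) x j)
      (ne_neg hk)]
  refine (Finset.sum_subset (Finset.subset_univ _) fun x _ hx => ?_).symm
  simp only [Finset.mem_insert, Finset.mem_singleton, not_or] at hx
  rw [C.St_zero g i x, zero_mul]
  · rcases hi with rfl | rfl
    · exact hx.1
    · exact hx.2
  · rcases hi with rfl | rfl
    · exact hx.2
    · rw [neg_neg]; exact hx.1

/-- The block as a homomorphism. -/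
def blk (M : Subgroup G5) {k : T5} (hk : k ≠ 0) : C.St M →* G2 :=
  MonoidHom.toHomUnits
  { toFun := fun g => bMat k ((g : G5) : M5)
    map_one' := by
      have : k ≠ -k := ne_neg hk
      ext i j
      fin_cases i <;> fin_cases j <;> simp [bMat, this, this.symm]
    map_mul' := fun g h => by
      ext i j
      fin_cases i <;> fin_cases j <;>
        simp [bMat, Matrix.mul_apply, Fin.sum_univ_two] <;>
        first
          | exact C.St_mul_apply g h hk _ _ (Or.inl rfl)
          | exact C.St_mul_apply g h hk _ _ (Or.inr rfl) }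

theorem coe_blk {M : Subgroup G5} {k : T5} (hk : k ≠ 0) (g : C.St M) :
    (C.blk M hk g : M2) = bMat k ((g : G5) : M5) := rfl

/-- The entry at zero as a homomorphism. -/
def ctr (M : Subgroup G5) : C.St M →* F where
  toFun g := ((g : G5) : M5) 0 0
  map_one' := by simp
  map_mul' g h := by
    rw [Subgroup.coe_mul, Units.val_mul, Matrix.mul_apply, Finset.sum_eq_single 0]
    · intro x _ hx
      rw [C.St_zero g 0 x hx (by simpa using hx), zero_mul]
    · simp

theorem ctr_apply {M : Subgroup G5} (g : C.St M) : C.ctr M g = ((g : G5) : M5) 0 0 := rfl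

/-- Elements of the centraliser are determined by the blocks. -/
theorem St_ext {M : Subgroup G5} {k : T5} (hk : k ≠ 0) {g h : C.St M} (h0 : C.ctr M g = C.ctr M h)
    (h1 : C.blk M hk g = C.blk M hk h)
    (h2 : C.blk M (two_mul_ne hk) g =
      C.blk M (two_mul_ne hk) h) : g = h := by
  refine Subtype.ext (Units.ext (Matrix.ext fun i j => ?_))
  by_cases hz : j ≠ i ∧ j ≠ -i
  · rw [C.St_zero g i j hz.1 hz.2, C.St_zero h i j hz.1 hz.2]
  have e : ∀ k i j : T5, k ≠ 0 → ¬ (j ≠ i ∧ j ≠ -i) → (i = 0 ∧ j = 0) ∨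
      ((i = k ∨ i = -k) ∧ (j = k ∨ j = -k)) ∨ ((i = 2 * k ∨ i = -(2 * k)) ∧ (j = 2 * k ∨ j = -(2 * k))) := by
    decide
  have a1 := congrArg Units.val h1
  have a2 := congrArg Units.val h2
  rw [coe_blk, coe_blk] at a1 a2
  rcases e k i j hk hz with ⟨rfl, rfl⟩ | ⟨hi, hj⟩ | ⟨hi, hj⟩
  · exact h0
  · rcases hi with rfl | rfl <;> rcases hj with rfl | rfl
    · exact congrFun (congrFun a1 0) 0
    · exact congrFun (congrFun a1 0) 1
    · exact congrFun (congrFun a1 1) 0
    · exact congrFun (congrFun a1 1) 1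
  · rcases hi with rfl | rfl <;> rcases hj with rfl | rfl
    · exact congrFun (congrFun a2 0) 0
    · exact congrFun (congrFun a2 0) 1
    · exact congrFun (congrFun a2 1) 0
    · exact congrFun (congrFun a2 1) 1

theorem Z_mem {M : Subgroup G5} (hM : C.ContainsN M) : C.W (0, 1) ∈ C.St M := by
  refine ⟨Subgroup.mem_centralizer_singleton_iff.2 ?_, hM.W _⟩
  rw [C.u_W, mul_zero, show C.chU 0 = 1 from Units.ext C.ch_zero,
    Cfsg.Agent.H1.HeisThree.sc_one, one_mul]
  norm_num

theorem flip_mem {M : Subgroup G5} (hM : C.ContainsN M) : C.flip ∈ C.St M := by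
  refine ⟨Subgroup.mem_centralizer_singleton_iff.2 ?_, hM.flip⟩
  apply Units.ext
  ext i j
  simp only [Units.val_mul, coe_u, Matrix.mul_diagonal, Matrix.diagonal_mul, coe_flip]
  by_cases h : i = -j
  · subst h; simp
  · simp [h]

theorem blk_Z {M : Subgroup G5} (hM : C.ContainsN M) {k : T5} (hk : k ≠ 0) :
    (C.blk M hk ⟨_, C.Z_mem hM⟩ : M2) = !![C.ch k, 0; 0, C.ch (-k)] := by
  have : k ≠ -k := ne_neg hk
  rw [coe_blk]
  ext i j
  fin_cases i <;> fin_cases j <;> simp [bMat, coe_W, wMat_apply, this, this.symm]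

theorem blk_flip {M : Subgroup G5} (hM : C.ContainsN M) {k : T5} (hk : k ≠ 0) :
    (C.blk M hk ⟨_, C.flip_mem hM⟩ : M2) = !![0, 1; 1, 0] := by
  have : k ≠ -k := ne_neg hk
  rw [coe_blk]
  ext i j
  fin_cases i <;> fin_cases j <;> simp [bMat, coe_flip, this, this.symm]

section Fin5

variable [Fintype F]

/-- A transvection between opposite coordinates gives the special linear group. -/
theorem sl_mem_of_tv (hp : p.Prime) (hF : Fintype.card F = p) {M : Subgroup G5} (hM : C.ContainsN M)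
    {x : G5} (hxM : x ∈ M) {k : T5} (hk : k ≠ 0) {t : F} (ht : t ≠ 0)
    (hx : (x : M5) = Matrix.transvection (-k) k t) : ∀ g : G5, (g : M5).det = 1 → g ∈ M := by
  have hpow : ∀ {y : G5} {i j : T5} {s : F}, i ≠ j → (y : M5) = Matrix.transvection i j s → ∀ n : ℕ,
      ((y ^ n : G5) : M5) = Matrix.transvection i j (n * s) := by
    intro y i j s hij hy n
    induction n with
    | zero => simp
    | succ n ih =>
      rw [pow_succ, Units.val_mul, ih, hy, Matrix.transvection_mul_transvection_same i j hij]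
      push_cast
      ring_nf
  let P : T5 → T5 → Prop := fun i j => ∀ c : F, ∃ y ∈ M, (y : M5) = Matrix.transvection i j c
  have h0 : P (-k) k := fun c => by
    obtain ⟨n, hn⟩ := exists_natCast hp hF (c / t)
    exact ⟨x ^ n, pow_mem hxM n, by
      rw [hpow (ne_neg hk).symm hx, hn, div_mul_cancel₀ c ht]⟩
  have hshift : ∀ {i j : T5} (a : T5), P i j → P (i + a) (j + a) := by
    intro i j a h c
    obtain ⟨y, hy, hym⟩ := h c
    refine ⟨C.W (a, 0) * y * (C.W (a, 0))⁻¹, mul_mem (mul_mem (hM.W _) hy) (inv_mem (hM.W _)), ?_⟩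
    have key : C.wMat (a, 0) * Matrix.transvection i j c =
        Matrix.transvection (i + a) (j + a) c * C.wMat (a, 0) := by
      ext r s
      rw [Matrix.mul_apply, Matrix.mul_apply, Finset.sum_eq_single (r - a), Finset.sum_eq_single (s + a)]
      · simp [wMat_apply, C.ch_zero, Matrix.transvection, Matrix.single_apply, Matrix.one_apply,
          eq_sub_iff_add_eq, sub_eq_iff_eq_add]
      · intro q _ hq
        simp [wMat_apply, hq]
      · simp
      · intro q _ hq
        have : r ≠ q + a := fun e => hq (by rw [e, add_sub_cancel_right])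
        simp [wMat_apply, this]
      · simp
    rw [Units.val_mul, Units.val_mul, coe_W, hym, key, ← coe_W, Matrix.mul_assoc, Units.mul_inv, mul_one]
  have hneg : ∀ {i j : T5}, P i j → P (-i) (-j) := by
    intro i j h c
    obtain ⟨y, hy, hym⟩ := h c
    refine ⟨C.flip * y * C.flip, mul_mem (mul_mem hM.flip hy) hM.flip, ?_⟩
    rw [Units.val_mul, Units.val_mul, hym]
    ext r s
    rw [Matrix.mul_apply, Finset.sum_eq_single (-s), Matrix.mul_apply, Finset.sum_eq_single (-r)]
    · simp [coe_flip, Matrix.transvection, Matrix.single_apply, Matrix.one_apply, neg_inj, neg_eq_iff_eq_neg]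
    · intro q _ hq
      have : r ≠ -q := fun e => hq (by rw [e, neg_neg])
      simp [coe_flip, this]
    · simp
    · intro q _ hq
      simp [coe_flip, hq]
    · simp
  have htrans : ∀ {a b c : T5}, a ≠ b → b ≠ c → a ≠ c → P a b → P b c → P a c := by
    intro a b c hab hbc hac h1 h2 s
    obtain ⟨y, hy, hym⟩ := h1 s
    obtain ⟨z, hz, hzm⟩ := h2 1
    obtain ⟨y', hy', hym'⟩ := h1 (-s)
    obtain ⟨z', hz', hzm'⟩ := h2 (-1)
    refine ⟨y * z * y' * z', mul_mem (mul_mem (mul_mem hy hz) hy') hz', ?_⟩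
    simp only [Units.val_mul, hym, hzm, hym', hzm', Matrix.transvection, Matrix.mul_add, Matrix.add_mul,
      one_mul, mul_one, Matrix.single_mul_single_same, Matrix.single_mul_single_of_ne _ _ _ _ hab.symm,
      Matrix.single_mul_single_of_ne _ _ _ _ hbc.symm, Matrix.single_mul_single_of_ne _ _ _ _ hac.symm,
      zero_mul, mul_zero, neg_mul, add_zero]
    simp only [← Matrix.single_neg]
    abel
  have all : ∀ i j : T5, i ≠ j → P i j := by
    have ne : ∀ k i : T5, k ≠ 0 → i ≠ i + 2 * k ∧ i + 2 * k ≠ i + 2 * k + 2 * k ∧ i ≠ i + 2 * k + 2 * k ∧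
        i ≠ i - 2 * k ∧ i - 2 * k ≠ i - 2 * k - 2 * k ∧ i ≠ i - 2 * k - 2 * k := by decide
    have d1 : ∀ i, P i (i + 2 * k) := fun i => by
      have := hshift (i + k) h0
      rwa [show -k + (i + k) = i by ring, show k + (i + k) = i + 2 * k by ring] at this
    have d4 : ∀ i, P i (i - 2 * k) := fun i => by
      have := hshift (i - k) (hneg h0)
      rwa [show -(-k) + (i - k) = i by ring, show -k + (i - k) = i - 2 * k by ring] at this
    have d2 : ∀ i, P i (i + 4 * k) := fun i => by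
      have := htrans (ne k i hk).1 (ne k i hk).2.1
        (ne k i hk).2.2.1 (d1 i) (d1 (i + 2 * k))
      rwa [show i + 2 * k + 2 * k = i + 4 * k by ring] at this
    have d3 : ∀ i, P i (i - 4 * k) := fun i => by
      have := htrans (ne k i hk).2.2.2.1 (ne k i hk).2.2.2.2.1
        (ne k i hk).2.2.2.2.2 (d4 i) (d4 (i - 2 * k))
      rwa [show i - 2 * k - 2 * k = i - 4 * k by ring] at this
    intro i j hij
    have : j = i + 2 * k ∨ j = i - 2 * k ∨ j = i + 4 * k ∨ j = i - 4 * k :=
      (by decide : ∀ i j k : T5, k ≠ 0 → i ≠ j →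
        j = i + 2 * k ∨ j = i - 2 * k ∨ j = i + 4 * k ∨ j = i - 4 * k) i j k hk hij
    rcases this with rfl | rfl | rfl | rfl
    exacts [d1 i, d4 i, d2 i, d3 i]
  intro g hg
  have htop : Subgroup.comap Matrix.SpecialLinearGroup.toGL M = ⊤ :=
    Cfsg.Agent.Linear.eq_top_of_transvection_mem fun a b hab c => by
      obtain ⟨y, hy, e⟩ := all a b hab c
      rw [Subgroup.mem_comap]
      convert hy using 1
      apply Units.ext
      rw [e]
      simp [Matrix.SpecialLinearGroup.transvection_coe, Matrix.transvection]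
  let g' : Matrix.SpecialLinearGroup T5 F := ⟨(g : M5), hg⟩
  have hmem : g' ∈ Subgroup.comap Matrix.SpecialLinearGroup.toGL M := htop ▸ Subgroup.mem_top g'
  rw [Subgroup.mem_comap] at hmem
  convert hmem using 1
  exact Units.ext rfl

/-- An element of the centraliser which is elementary in one block and trivial elsewhere. -/
theorem sl_mem_of_low (hp : p.Prime) (hF : Fintype.card F = p) {M : Subgroup G5} (hM : C.ContainsN M)
    {k l : T5} (hk : k ≠ 0) (hl : l ≠ 0) (hkl : l = 2 * k ∨ k = 2 * l) {t : F} (ht : t ≠ 0) {x : C.St M}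
    (h0 : C.ctr M x = 1) (hkx : (C.blk M hk x : M2) = !![1, 0; t, 1]) (hlx : C.blk M hl x = 1) :
    ∀ g : G5, (g : M5).det = 1 → g ∈ M := by
  refine C.sl_mem_of_tv hp hF hM (x := (x : G5)) (Subgroup.mem_inf.1 x.2).2 hk ht ?_
  ext i j
  have e : ∀ k l i j : T5, k ≠ 0 → (l = 2 * k ∨ k = 2 * l) → ¬ (j ≠ i ∧ j ≠ -i) → (i = 0 ∧ j = 0) ∨
      ((i = k ∨ i = -k) ∧ (j = k ∨ j = -k)) ∨ ((i = l ∨ i = -l) ∧ (j = l ∨ j = -l)) := by
    decide
  have a1 := hkx
  have a2 := congrArg Units.val hlx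
  rw [coe_blk] at a1
  rw [coe_blk, Units.val_one] at a2
  rw [ctr_apply] at h0
  have k1 : k ≠ -k := ne_neg hk
  by_cases hz : j ≠ i ∧ j ≠ -i
  · rw [C.St_zero x i j hz.1 hz.2]
    have : ¬ (i = -k ∧ j = k) := fun ⟨e1, e2⟩ => hz.2 (by rw [e1, e2, neg_neg])
    rw [Matrix.transvection, Matrix.add_apply, Matrix.one_apply_ne (Ne.symm hz.1), Matrix.single_apply,
      if_neg (fun h => this ⟨h.1.symm, h.2.symm⟩), add_zero]
  rcases e k l i j hk hkl hz with ⟨rfl, rfl⟩ | ⟨hi, hj⟩ | ⟨hi, hj⟩
  · simp [Matrix.transvection, Matrix.single_apply, h0, hk]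
  · rcases hi with rfl | rfl <;> rcases hj with rfl | rfl
    · simpa [bMat, Matrix.transvection, Matrix.single_apply, k1.symm] using congrFun (congrFun a1 0) 0
    · simpa [bMat, Matrix.transvection, Matrix.single_apply, k1, k1.symm] using congrFun (congrFun a1 0) 1
    · simpa [bMat, Matrix.transvection, Matrix.single_apply, k1, k1.symm] using congrFun (congrFun a1 1) 0
    · simpa [bMat, Matrix.transvection, Matrix.single_apply, k1, k1.symm] using congrFun (congrFun a1 1) 1
  · have l1 : l ≠ -l := ne_neg hl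
    have m1 : -k ≠ l ∧ -k ≠ -l ∧ k ≠ l ∧ k ≠ -l :=
      (by decide : ∀ k l : T5, k ≠ 0 → (l = 2 * k ∨ k = 2 * l) → -k ≠ l ∧ -k ≠ -l ∧ k ≠ l ∧ k ≠ -l) k l hk hkl
    rcases hi with rfl | rfl <;> rcases hj with rfl | rfl
    · simpa [bMat, Matrix.transvection, Matrix.single_apply, m1] using congrFun (congrFun a2 0) 0
    · simpa [bMat, Matrix.transvection, Matrix.single_apply, l1, m1] using congrFun (congrFun a2 0) 1
    · simpa [bMat, Matrix.transvection, Matrix.single_apply, l1.symm, m1] using congrFun (congrFun a2 1) 0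
    · simpa [bMat, Matrix.transvection, Matrix.single_apply, m1] using congrFun (congrFun a2 1) 1

set_option maxHeartbeats 1000000 in
/-- A non-monomial element of the centraliser gives the special linear group. -/
theorem sl_mem_of_block (hp : p.Prime) (hF : Fintype.card F = p) (hp2 : p ≠ 2) {M : Subgroup G5}
    (hM : C.ContainsN M) {g : G5} (hgM : g ∈ M) (hu : g * C.u = C.u * g) (hf : g * C.flip = C.flip * g)
    {k : T5} (hk : k ≠ 0) (h1 : (g : M5) k k ≠ 0) (h2 : (g : M5) k (-k) ≠ 0) :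
    ∀ g : G5, (g : M5).det = 1 → g ∈ M := by
  classical
  have := Fact.mk hp
  have := charP_of_card hp hF
  have two : (2 : F) ≠ 0 := Cfsg.Agent.H1.HeisThree.two_ne_zero_of hp2 hp
  set Zs : C.St M := ⟨_, C.Z_mem hM⟩ with hZs
  set fs : C.St M := ⟨_, C.flip_mem hM⟩ with hfs
  set gs : C.St M := ⟨g, Subgroup.mem_centralizer_singleton_iff.2 hu, hgM⟩ with hgs
  set β := C.blk M hk with hβ
  have kk : k ≠ -k := ne_neg hk
  have hsym : ∀ i j, (g : M5) (-i) (-j) = (g : M5) i j := fun i j => by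
    have := congrArg (fun x : G5 => (x : M5) (-i) j) hf
    simp only [Units.val_mul, Matrix.mul_apply, coe_flip, mul_ite, ite_mul, mul_one, one_mul, mul_zero,
      zero_mul] at this
    rw [Finset.sum_ite_eq' Finset.univ (-j) (fun x => (g : M5) (-i) x), if_pos (Finset.mem_univ _),
      Finset.sum_eq_single i (fun q _ hq => if_neg fun e => hq (neg_inj.1 e).symm) (by simp), if_pos rfl]
      at this
    exact this
  -- normalise the element
  obtain ⟨d, a, b, ha, hb, hdm, m, hm⟩ : ∃ (d : C.St M) (a b : F), a ≠ 0 ∧ b ≠ 0 ∧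
      (β d : M2) = !![a, b; b, a] ∧ ∃ m : ℕ, (a + b) ^ m + (a - b) ^ m = 0 := by
    set α := (g : M5) k k with hα
    set γ := (g : M5) k (-k) with hγ
    have hgm : (β gs : M2) = !![α, γ; γ, α] := by
      rw [hβ, coe_blk]
      ext i j
      fin_cases i <;> fin_cases j <;> simp [bMat, hgs, hα, hγ]
      · rw [← hsym k (-k), neg_neg]
      · exact hsym k k
    have hdet : (α + γ) * (α - γ) ≠ 0 := by
      have := Matrix.isUnits_det_units (β gs)
      rw [hgm] at this
      simp [Matrix.det_fin_two] at this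
      intro h0
      exact this (by linear_combination h0)
    obtain ⟨hp1, hm1⟩ := mul_ne_zero_iff.1 hdet
    set ν : Fˣ := Units.mk0 (α + γ) hp1 * (Units.mk0 (α - γ) hm1)⁻¹ with hν
    set o := orderOf ν with ho
    have hno : (ν : F) ^ o = 1 := by
      rw [← Units.val_pow_eq_pow_val, ho, pow_orderOf_eq_one, Units.val_one]
    have hνv : (ν : F) = (α + γ) / (α - γ) := by simp [hν, div_eq_mul_inv]
    rcases Nat.even_or_odd o with ⟨j, hj⟩ | hodd
    · refine ⟨gs, α, γ, h1, h2, hgm, j, ?_⟩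
      have hsq : ((ν : F) ^ j) * ((ν : F) ^ j) = 1 := by rw [← pow_add, ← hj, hno]
      have hneg : (ν : F) ^ j = -1 := by
        refine (mul_self_eq_one_iff.1 hsq).resolve_left fun h => ?_
        have hopos : 0 < o := orderOf_pos _
        have h' : ν ^ j = 1 := Units.ext (by rw [Units.val_pow_eq_pow_val, h, Units.val_one])
        have := Nat.le_of_dvd (by omega) (orderOf_dvd_of_pow_eq_one h')
        omega
      rw [hνv, div_pow, div_eq_iff (pow_ne_zero _ hm1)] at hneg
      linear_combination hneg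
    · refine ⟨gs * fs, γ, α, h2, h1, ?_, o, ?_⟩
      · rw [map_mul, Units.val_mul, hgm, hfs, hβ, C.blk_flip hM hk]
        ext i j
        fin_cases i <;> fin_cases j <;> simp [Matrix.mul_apply, Fin.sum_univ_two]
      · rw [hνv, div_pow, div_eq_one_iff_eq (pow_ne_zero _ hm1)] at hno
        rw [show γ - α = -(α - γ) by ring, hodd.neg_pow, add_comm γ α, hno]
        ring
  let : Fintype (GaloisField p 2) := Fintype.ofFinite _
  obtain ⟨ψ, hψ⟩ := exists_proj (F := F) (p := p) hF hp2
  let φ := ψ.comp β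
  have hdvd : p ∣ Nat.card φ.range := by
    by_contra hnd
    have hS : H1.HeisThree.Small φ.range := small_of_not_dvd p φ.range hnd
    refine no_flip_five hS (w := φ.rangeRestrict Zs) (b := φ.rangeRestrict fs) (d := φ.rangeRestrict d)
      ?_ ?_ ?_ ?_ ?_ ?_ ?_
    · intro h
      obtain ⟨c, hc⟩ := (hψ _).1 (congrArg Subtype.val h : φ Zs = 1)
      rw [hZs, hβ, C.blk_Z hM hk] at hc
      have e0 := congrFun (congrFun hc 0) 0
      have e1 := congrFun (congrFun hc 1) 1
      simp at e0 e1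
      exact kk (C.ch_inj (e0.trans e1.symm))
    · have : Zs ^ 5 = 1 := Subtype.ext (C.W_five _)
      rw [← map_pow, this, map_one]
    · have : fs * fs = 1 := Subtype.ext C.flip_mul_flip
      rw [← map_mul, this, map_one]
    · rw [← map_inv, ← map_inv, ← map_mul, ← map_mul]
      apply Subtype.ext
      show ψ (β (fs * Zs * fs⁻¹)) = ψ (β Zs⁻¹)
      congr 1
      rw [map_mul, map_mul, map_inv, map_inv, mul_inv_eq_iff_eq_mul, eq_inv_mul_iff_mul_eq]
      apply Units.ext
      simp only [Units.val_mul, hZs, hfs, hβ, C.blk_Z hM hk, C.blk_flip hM hk]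
      ext i j
      fin_cases i <;> fin_cases j <;>
        simp [Matrix.mul_apply, Fin.sum_univ_two, C.ch_mul_neg, mul_comm (C.ch (-k))]
    · rw [← map_mul, ← map_mul]
      apply Subtype.ext
      show ψ (β (d * fs)) = ψ (β (fs * d))
      congr 1
      apply Units.ext
      rw [map_mul, map_mul, Units.val_mul, Units.val_mul, hdm, hfs, hβ, C.blk_flip hM hk]
      ext i j
      fin_cases i <;> fin_cases j <;> simp [Matrix.mul_apply, Fin.sum_univ_two]
    · intro h
      rw [← map_mul] at h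
      obtain ⟨c, hc⟩ := (hψ _).1 (congrArg Subtype.val h : φ (d * d) = 1)
      rw [map_mul, Units.val_mul, hdm] at hc
      have e1 := congrFun (congrFun hc 0) 1
      simp [Matrix.mul_apply, Fin.sum_univ_two] at e1
      exact mul_ne_zero two (mul_ne_zero ha hb) (by linear_combination e1)
    · refine ⟨(m : ℤ), ?_⟩
      show φ.rangeRestrict d ^ (m : ℤ) = φ.rangeRestrict fs
      rw [zpow_natCast, ← map_pow]
      apply Subtype.ext
      show ψ (β (d ^ m)) = ψ (β fs)
      rw [← mul_inv_eq_one, ← map_inv, ← map_mul, hψ]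
      refine ⟨(a + b) ^ m, ?_⟩
      have hmd := coe_pow_circ two hdm m
      rw [hm, zero_div, show (a + b) ^ m - (a - b) ^ m = 2 * (a + b) ^ m by linear_combination -hm,
        mul_div_cancel_left₀ _ two] at hmd
      rw [map_pow, Units.val_mul, hmd, show (β fs)⁻¹ = β fs by
        rw [← map_inv]; exact congrArg β (Subtype.ext C.flip_inv), hfs, hβ, C.blk_flip hM hk]
      ext i j
      fin_cases i <;> fin_cases j <;> simp [Matrix.mul_apply, Fin.sum_univ_two]
  obtain ⟨e, hep, he1⟩ := exists_order_p_of_dvd φ hp hdvd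
  have hkne : C.ch k ≠ C.ch (-k) := fun h => kk (C.ch_inj h)
  obtain ⟨t, ht, y0, ⟨x', rfl⟩, hx'⟩ := exists_low_of_dvd (G := β.range) (D := β Zs) (S := β fs)
    (a := C.ch k) (b := C.ch (-k)) hp hF ⟨Zs, rfl⟩ ⟨fs, rfl⟩ (C.blk_Z hM hk) hkne
    (by rw [hfs, hβ, C.blk_flip hM hk]; simp) (by rw [hfs, hβ, C.blk_flip hM hk]; simp)
    (g := β e) ⟨e, rfl⟩ (by rw [← map_pow]; exact (hψ _).1 hep) (fun h => he1 ((hψ _).2 h))
  set l := 2 * k with hl'
  have hl : l ≠ 0 := two_mul_ne hk
  -- kill the prime-to-p parts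
  set E := (p - 1) * (p - 1) * (p + 1) with hE
  have hEF : (E : F) = 1 := by
    rw [hE]; push_cast [Nat.cast_sub hp.one_le]; rw [CharP.cast_eq_zero F p]; ring
  set x := x' ^ E with hxdef
  have hx0 : C.ctr M x = 1 := by
    have hne : C.ctr M x' ≠ 0 := by
      intro h0
      have := congrArg (C.ctr M) (mul_inv_cancel x')
      rw [map_mul, h0, zero_mul, map_one] at this
      exact zero_ne_one this
    rw [hxdef, map_pow, hE, mul_assoc, pow_mul, ← hF, FiniteField.pow_card_sub_one_eq_one _ hne, one_pow]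
  have hxk : (β x : M2) = !![1, 0; t, 1] := by
    rw [hxdef, map_pow, coe_pow_low hx', hEF, one_mul]
  set y := C.blk M hl x with hy
  have hyp : y ^ p = 1 := by
    have hcard : Nat.card G2 = E * p := by
      rw [Matrix.card_GL_field, Fin.prod_univ_two, hF, hE]
      simp only [Fin.val_zero, Fin.val_one, pow_zero, pow_one]
      have := hp.one_le
      obtain ⟨q, rfl⟩ : ∃ q, p = q + 1 := ⟨p - 1, by omega⟩
      rw [show (q + 1) ^ 2 = q * (q + 2) + 1 by ring, show q * (q + 2) + 1 - (q + 1) = q * (q + 1) by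
        rw [show q * (q + 2) + 1 = q * (q + 1) + (q + 1) by ring, add_tsub_cancel_right],
        add_tsub_cancel_right, add_tsub_cancel_right]
      ring
    rw [hy, hxdef, map_pow, ← pow_mul, ← hcard]
    exact pow_card_eq_one'
  by_cases hy1 : y = 1
  · exact C.sl_mem_of_low hp hF hM hk hl (Or.inl rfl) ht hx0 hxk hy1
  set N := (y : M2) - 1 with hN
  have hyN : (y : M2) = 1 + N := by rw [hN, add_sub_cancel]
  have hNnil : IsNilpotent N := ⟨p, by
    rw [hN, sub_pow_char_of_commute _ (Commute.one_right _), ← Units.val_pow_eq_pow_val, hyp, one_pow,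
      Units.val_one, sub_self]⟩
  have hN2 := sq_zero_of_nilpotent hNnil
  obtain ⟨n, hn⟩ := exists_natCast hp hF (C.ch (-(2 * k)))
  set X := (x ^ n)⁻¹ * (Zs * x * Zs⁻¹) with hX
  have hXk : C.blk M hk X = 1 := by
    rw [hX, map_mul, map_inv, map_mul, map_mul, map_inv, map_pow, inv_mul_eq_one, eq_mul_inv_iff_mul_eq]
    apply Units.ext
    rw [Units.val_mul, Units.val_mul, ← hβ, coe_pow_low hxk, hn, hxk, hZs, hβ, C.blk_Z hM hk]
    ext i j
    fin_cases i <;> fin_cases j <;> simp [Matrix.mul_apply, Fin.sum_univ_two]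
    rw [mul_assoc, mul_comm t, ← mul_assoc, ← C.ch_add, show -(2 * k) + k = -k by ring]
  have hX0 : C.ctr M X = 1 := by
    have h1 : C.ctr M (Zs * x * Zs⁻¹) = 1 := by
      rw [map_mul, map_mul, hx0, mul_one, ← map_mul, mul_inv_cancel, map_one]
    have h2 : C.ctr M (x ^ n)⁻¹ = 1 := by
      have := congrArg (C.ctr M) (inv_mul_cancel (x ^ n))
      rwa [map_mul, map_pow, hx0, one_pow, mul_one, map_one] at this
    rw [hX, map_mul, h1, h2, mul_one]
  set z := C.blk M hl X with hz
  have hzns : ¬ ∃ c : F, (z : M2) = c • 1 := by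
    rintro ⟨c, hc⟩
    have h3 : (C.blk M hl Zs : M2) * (y : M2) = c • (((y ^ n : G2) : M2) * (C.blk M hl Zs : M2)) := by
      have h4 : y ^ n * z * C.blk M hl Zs = C.blk M hl Zs * y := by
        rw [hz, hX, map_mul, map_inv, map_mul, map_mul, map_inv, map_pow, ← hy]; group
      rw [← Units.val_mul, ← h4, Units.val_mul, Units.val_mul, hc, Matrix.mul_smul, mul_one,
        Matrix.smul_mul]
    rw [coe_pow_one_add hyN hN2, hyN, hn, hZs, C.blk_Z hM hl] at h3
    have htr : N 0 0 + N 1 1 = 0 := by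
      have := (Matrix.isNilpotent_trace_of_isNilpotent hNnil).eq_zero
      rwa [Matrix.trace_fin_two] at this
    have e00 := congrFun (congrFun h3 0) 0
    have e01 := congrFun (congrFun h3 0) 1
    have e10 := congrFun (congrFun h3 1) 0
    have e11 := congrFun (congrFun h3 1) 1
    simp [Matrix.mul_apply, Fin.sum_univ_two, Matrix.add_apply] at e00 e01 e10 e11
    have hc1 : c = 1 := by
      have a := C.ch_ne_zero l
      have a' := C.ch_ne_zero (-l)
      have f0 : 1 + N 0 0 = c * (1 + C.ch (-(2 * k)) * N 0 0) := mul_left_cancel₀ a (by linear_combination e00)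
      have f1 : 1 + N 1 1 = c * (1 + C.ch (-(2 * k)) * N 1 1) := mul_left_cancel₀ a' (by linear_combination e11)
      exact (mul_left_cancel₀ two (by linear_combination f0 + f1 + (c * C.ch (-(2 * k)) - 1) * htr)).symm
    subst hc1
    have n1 : C.ch (-(2 * k)) ≠ 1 := fun h => by
      exact (by decide : ∀ k : T5, k ≠ 0 → -(2 * k) ≠ 0) k hk (C.ch_eq_one h)
    have z00 : N 0 0 = 0 := by
      refine (mul_eq_zero.1 (show (C.ch l * (1 - C.ch (-(2 * k)))) * N 0 0 = 0 by
        linear_combination e00)).resolve_left (mul_ne_zero (C.ch_ne_zero _) (sub_ne_zero.2 n1.symm))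
    have z11 : N 1 1 = 0 := by linear_combination htr - z00
    have z01 : N 0 1 = 0 := by
      refine (mul_eq_zero.1 (show (C.ch l - C.ch (-(2 * k) + -l)) * N 0 1 = 0 by
        rw [C.ch_add]; linear_combination e01)).resolve_left (sub_ne_zero.2 fun h => ?_)
      exact (by decide : ∀ k : T5, k ≠ 0 → 2 * k ≠ -(2 * k) + -(2 * k)) k hk (C.ch_inj h)
    have z10 : N 1 0 = 0 := by
      refine (mul_eq_zero.1 (show (C.ch (-l) - C.ch (-(2 * k) + l)) * N 1 0 = 0 by
        rw [C.ch_add]; linear_combination e10)).resolve_left (sub_ne_zero.2 fun h => ?_)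
      exact (by decide : ∀ k : T5, k ≠ 0 → -(2 * k) ≠ -(2 * k) + 2 * k) k hk (C.ch_inj h)
    refine hy1 (Units.ext ?_)
    rw [hyN, Units.val_one, show N = 0 by ext i j; fin_cases i <;> fin_cases j <;> assumption, add_zero]
  -- elementary matrices in the second block
  set β' := C.blk M hl with hβ'
  have hlne : C.ch l ≠ C.ch (-l) := fun h => by
    exact ne_neg hl (C.ch_inj h)
  obtain ⟨t', ht', y1, hy1', hy1m⟩ := exists_low_of_dvd (G := β'.range) (D := β' Zs) (S := β' fs)
    (a := C.ch l) (b := C.ch (-l)) hp hF ⟨Zs, rfl⟩ ⟨fs, rfl⟩ (C.blk_Z hM hl) hlne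
    (by rw [hfs, hβ', C.blk_flip hM hl]; simp) (by rw [hfs, hβ', C.blk_flip hM hl]; simp)
    (g := y) ⟨x, rfl⟩ ⟨1, by rw [hyp, Units.val_one, one_smul]⟩ (by
      rintro ⟨c, hc⟩
      refine hy1 (Units.ext ?_)
      have h1 := congrArg (fun A : M2 => A ^ p) hc
      simp only [← Units.val_pow_eq_pow_val, hyp, Units.val_one, smul_pow, one_pow,
        show c ^ p = c by rw [← hF]; exact FiniteField.pow_card c] at h1
      rw [hc, Units.val_one, ← h1])
  let K : Subgroup G2 := ((C.ctr M).toHomUnits.prod β).ker.map β'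
  obtain ⟨s, hs, y2, hy2, hy2m⟩ := low_of_nonscalar (K := K) (G := β'.range)
    (by
      rintro _ ⟨u, rfl⟩ _ ⟨h, hh, rfl⟩
      exact ⟨u * h * u⁻¹, (MonoidHom.normal_ker _).conj_mem _ hh u, by simp⟩)
    (low_all hp hF ht' hy1' hy1m) (J := β' fs) ⟨fs, rfl⟩ (C.blk_flip hM hl) (D := β' Zs) ⟨Zs, rfl⟩
    (a := C.ch l) (by
      rw [hZs, hβ', C.blk_Z hM hl, inv_eq_of_mul_eq_one_right (C.ch_mul_neg l)])
    (fun h => by
      rw [C.ch_pow] at h
      exact (by decide : ∀ l : T5, l ≠ 0 → ((4 : ℕ) : T5) * l ≠ 0) l hl (C.ch_eq_one h))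
    (z := z) ⟨X, MonoidHom.mem_ker.2 (Prod.ext (Units.ext hX0) hXk), rfl⟩ hzns
  obtain ⟨X2, hX2, rfl⟩ := hy2
  replace hX2 := Prod.mk_eq_one.1 (MonoidHom.mem_ker.1 hX2)
  exact C.sl_mem_of_low hp hF hM hl hk (Or.inr rfl) hs (congrArg Units.val hX2.1) hy2m hX2.2

end Fin5

end Penta

end Cfsg.Agent.H36.SLFiveHeis
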