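import Cfsg.Agent.H36.SLFiveHeis.Model

/-!
The centraliser of the negation of coordinates as a pair of matrices on symmetric and antisymmetric vectors.
-/

set_option autoImplicit false

namespace Cfsg.Agent.H36.SLFiveHeis

open Matrix
open Cfsg.Agent.H1.HeisThree (sc coe_sc)

theorem sum5 {M : Type*} [AddCommMonoid M] (f : ZMod 5 → M) : ∑ i, f i = f 0 + f 1 + f 2 + f 3 + f 4 := by
  have h5 : (Finset.univ : Finset (ZMod 5)) = {0, 1, 2, 3, 4} := by decide
  rw [h5, Finset.sum_insert (by decide), Finset.sum_insert (by decide), Finset.sum_insert (by decide),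
    Finset.sum_insert (by decide), Finset.sum_singleton]
  simp only [add_assoc]

namespace Penta

variable {F : Type*} [Field F] (C : Penta F)

local notation "T5" => ZMod 5
local notation "M5" => Matrix (ZMod 5) (ZMod 5) F
local notation "G5" => GL (ZMod 5) F
local notation "M3" => Matrix (Fin 3) (Fin 3) F
local notation "G3" => GL (Fin 3) F
local notation "M2" => Matrix (Fin 2) (Fin 2) F
local notation "G2" => GL (Fin 2) F

/-- The centraliser of the negation in `M`. -/
def Hf (M : Subgroup G5) : Subgroup G5 := Subgroup.centralizer ({C.flip} : Set G5) ⊓ M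

/-- Action on the symmetric vectors. -/
def eMat (g : M5) : M3 := !![g 0 0, g 0 1 + g 0 4, g 0 2 + g 0 3; g 1 0, g 1 1 + g 1 4, g 1 2 + g 1 3;
  g 2 0, g 2 1 + g 2 4, g 2 2 + g 2 3]

/-- Action on the antisymmetric vectors. -/
def oMat (g : M5) : M2 := !![g 1 1 - g 1 4, g 1 2 - g 1 3; g 2 1 - g 2 4, g 2 2 - g 2 3]

theorem sym_apply {g : G5} (h : g * C.flip = C.flip * g) (i j : T5) : (g : M5) (-i) (-j) = (g : M5) i j := by
  have := congrArg (fun x : G5 => (x : M5) (-i) j) h
  simp only [Units.val_mul, Matrix.mul_apply, coe_flip, mul_ite, ite_mul, mul_one, one_mul, mul_zero,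
    zero_mul] at this
  rw [Finset.sum_ite_eq' Finset.univ (-j) (fun x => (g : M5) (-i) x), if_pos (Finset.mem_univ _),
    Finset.sum_eq_single i (fun q _ hq => if_neg fun e => hq (neg_inj.1 e).symm) (by simp), if_pos rfl] at this
  exact this

theorem Hf_comm {M : Subgroup G5} (g : C.Hf M) : (g : G5) * C.flip = C.flip * g :=
  Subgroup.mem_centralizer_singleton_iff.1 (Subgroup.mem_inf.1 g.2).1

theorem mem_M {M : Subgroup G5} (g : C.Hf M) : (g : G5) ∈ M := (Subgroup.mem_inf.1 g.2).2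

theorem sym_rows {M : Subgroup G5} (g : C.Hf M) (j : T5) :
    ((g : G5) : M5) 4 j = ((g : G5) : M5) 1 (-j) ∧ ((g : G5) : M5) 3 j = ((g : G5) : M5) 2 (-j) ∧
      ((g : G5) : M5) 0 j = ((g : G5) : M5) 0 (-j) := by
  refine ⟨?_, ?_, ?_⟩ <;> rw [← C.sym_apply (C.Hf_comm g)]
  · rw [show -(4 : T5) = 1 from rfl]
  · rw [show -(3 : T5) = 2 from rfl]
  · rw [neg_zero]

set_option maxHeartbeats 1000000 in
theorem eMat_mul {M : Subgroup G5} (g h : C.Hf M) :
    eMat (((g * h : C.Hf M) : G5) : M5) = eMat ((g : G5) : M5) * eMat ((h : G5) : M5) := by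
  rw [Subgroup.coe_mul, Units.val_mul]
  obtain ⟨a1, b1, -⟩ := C.sym_rows h 0
  obtain ⟨a2, b2, -⟩ := C.sym_rows h 1
  obtain ⟨a3, b3, -⟩ := C.sym_rows h 2
  obtain ⟨a4, b4, -⟩ := C.sym_rows h 3
  obtain ⟨a5, b5, -⟩ := C.sym_rows h 4
  simp only [show -(0 : T5) = 0 from rfl, show -(1 : T5) = 4 from rfl, show -(2 : T5) = 3 from rfl,
    show -(3 : T5) = 2 from rfl, show -(4 : T5) = 1 from rfl] at a1 a2 a3 a4 a5 b1 b2 b3 b4 b5
  ext i j
  fin_cases i <;> fin_cases j <;>
    simp [eMat, Matrix.mul_apply, sum5, Fin.sum_univ_three, a1, a2, a3, a4, a5, b1, b2, b3, b4, b5] <;> ring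

set_option maxHeartbeats 1000000 in
theorem oMat_mul {M : Subgroup G5} (g h : C.Hf M) :
    oMat (((g * h : C.Hf M) : G5) : M5) = oMat ((g : G5) : M5) * oMat ((h : G5) : M5) := by
  rw [Subgroup.coe_mul, Units.val_mul]
  obtain ⟨a2, b2, c2⟩ := C.sym_rows h 1
  obtain ⟨a3, b3, c3⟩ := C.sym_rows h 2
  obtain ⟨a4, b4, -⟩ := C.sym_rows h 3
  obtain ⟨a5, b5, -⟩ := C.sym_rows h 4
  simp only [show -(1 : T5) = 4 from rfl, show -(2 : T5) = 3 from rfl,
    show -(3 : T5) = 2 from rfl, show -(4 : T5) = 1 from rfl] at a2 a3 a4 a5 b2 b3 b4 b5 c2 c3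
  ext i j
  fin_cases i <;> fin_cases j <;>
    simp [oMat, Matrix.mul_apply, sum5, Fin.sum_univ_two, a2, a3, a4, a5, b2, b3, b4, b5, c2, c3] <;> ring

/-- The action on symmetric vectors as a homomorphism. -/
def phE (M : Subgroup G5) : C.Hf M →* G3 := MonoidHom.toHomUnits
  { toFun := fun g => eMat ((g : G5) : M5)
    map_one' := by
      ext i j
      fin_cases i <;> fin_cases j <;> simp (config := {decide := true}) [eMat, Matrix.one_apply]
    map_mul' := C.eMat_mul }

/-- The action on antisymmetric vectors as a homomorphism. -/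
def phO (M : Subgroup G5) : C.Hf M →* G2 := MonoidHom.toHomUnits
  { toFun := fun g => oMat ((g : G5) : M5)
    map_one' := by
      ext i j
      fin_cases i <;> fin_cases j <;> simp (config := {decide := true}) [oMat, Matrix.one_apply]
    map_mul' := C.oMat_mul }

theorem coe_phE {M : Subgroup G5} (g : C.Hf M) : (C.phE M g : M3) = eMat ((g : G5) : M5) := rfl

theorem coe_phO {M : Subgroup G5} (g : C.Hf M) : (C.phO M g : M2) = oMat ((g : G5) : M5) := rfl

theorem ext_Hf (h2 : (2 : F) ≠ 0) {M : Subgroup G5} {g h : C.Hf M} (hE : C.phE M g = C.phE M h)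
    (hO : C.phO M g = C.phO M h) : g = h := by
  have e : ∀ k l, eMat ((g : G5) : M5) k l = eMat ((h : G5) : M5) k l := fun k l =>
    congrFun (congrFun (congrArg (fun x : G3 => (x : M3)) hE) k) l
  have o : ∀ k l, oMat ((g : G5) : M5) k l = oMat ((h : G5) : M5) k l := fun k l =>
    congrFun (congrFun (congrArg (fun x : G2 => (x : M2)) hO) k) l
  have key : ∀ a b a' b' : F, a + b = a' + b' → a - b = a' - b' → a = a' ∧ b = b' := fun a b a' b' s d =>
    ⟨mul_left_cancel₀ h2 (by linear_combination s + d), mul_left_cancel₀ h2 (by linear_combination s - d)⟩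
  have e00 := e 0 0
  have e10 := e 1 0
  have e20 := e 2 0
  have e01 := e 0 1
  have e02 := e 0 2
  have e11 := e 1 1
  have e12 := e 1 2
  have e21 := e 2 1
  have e22 := e 2 2
  have o00 := o 0 0
  have o01 := o 0 1
  have o10 := o 1 0
  have o11 := o 1 1
  simp [eMat] at e00 e10 e20 e01 e02 e11 e12 e21 e22
  simp [oMat] at o00 o01 o10 o11
  obtain ⟨g11, g14⟩ := key _ _ _ _ e11 o00
  obtain ⟨g12, g13⟩ := key _ _ _ _ e12 o01
  obtain ⟨g21, g24⟩ := key _ _ _ _ e21 o10
  obtain ⟨g22, g23⟩ := key _ _ _ _ e22 o11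
  have row0 : ∀ x : C.Hf M, ((x : G5) : M5) 0 4 = ((x : G5) : M5) 0 1 ∧ ((x : G5) : M5) 0 3 = ((x : G5) : M5) 0 2 :=
    fun x => ⟨(C.sym_rows x 4).2.2, (C.sym_rows x 3).2.2⟩
  have g01 : ((g : G5) : M5) 0 1 = ((h : G5) : M5) 0 1 :=
    mul_left_cancel₀ h2 (by rw [(row0 g).1, (row0 h).1] at e01; linear_combination e01)
  have g02 : ((g : G5) : M5) 0 2 = ((h : G5) : M5) 0 2 :=
    mul_left_cancel₀ h2 (by rw [(row0 g).2, (row0 h).2] at e02; linear_combination e02)
  have top : ∀ i : T5, (i = 0 ∨ i = 1 ∨ i = 2) → ∀ j, ((g : G5) : M5) i j = ((h : G5) : M5) i j := by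
    intro i hi j
    obtain rfl | rfl | rfl | rfl | rfl : j = 0 ∨ j = 1 ∨ j = 2 ∨ j = 3 ∨ j = 4 := by revert j; decide
    all_goals rcases hi with rfl | rfl | rfl
    all_goals first | assumption | (rw [(row0 g).1, (row0 h).1]; exact g01) | (rw [(row0 g).2, (row0 h).2]; exact g02)
  refine Subtype.ext (Units.ext (Matrix.ext fun i j => ?_))
  obtain hi | rfl | rfl : (i = 0 ∨ i = 1 ∨ i = 2) ∨ i = 3 ∨ i = 4 := by revert i; decide
  · exact top i hi j
  · rw [(C.sym_rows g j).2.1, (C.sym_rows h j).2.1]; exact top 2 (by simp) _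
  · rw [(C.sym_rows g j).1, (C.sym_rows h j).1]; exact top 1 (by simp) _

/-- The determinant is the product of those of the two halves. -/
theorem det_halves (h2 : (2 : F) ≠ 0) {M : Subgroup G5} (g : C.Hf M) :
    ((g : G5) : M5).det = (eMat ((g : G5) : M5)).det * (oMat ((g : G5) : M5)).det := by
  let e : Fin 3 ⊕ Fin 2 ≃ T5 :=
    { toFun := Sum.elim ![0, 1, 2] ![4, 3]
      invFun := ![Sum.inl 0, Sum.inl 1, Sum.inl 2, Sum.inr 1, Sum.inr 0]
      left_inv := by intro x; revert x; decide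
      right_inv := by intro x; revert x; decide }
  let P : M5 := Matrix.of fun i j => if i = j then (if i = 3 ∨ i = 4 then -1 else 1) else if i = -j then 1 else 0
  have hP : P.det ≠ 0 := by
    intro h0
    have h : P * P = Matrix.diagonal (fun i : T5 => if i = 0 then (1 : F) else 2) := by
      ext i j
      obtain rfl | rfl | rfl | rfl | rfl : i = 0 ∨ i = 1 ∨ i = 2 ∨ i = 3 ∨ i = 4 := by revert i; decide
      all_goals obtain rfl | rfl | rfl | rfl | rfl : j = 0 ∨ j = 1 ∨ j = 2 ∨ j = 3 ∨ j = 4 := by revert j; decide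
      all_goals simp (config := {decide := true}) [P, Matrix.mul_apply, sum5, Matrix.diagonal] <;> norm_num
    have := congrArg Matrix.det h
    rw [Matrix.det_mul, h0, mul_zero, Matrix.det_diagonal] at this
    exact Finset.prod_ne_zero_iff.2 (fun i _ => by
      obtain rfl | rfl | rfl | rfl | rfl : i = 0 ∨ i = 1 ∨ i = 2 ∨ i = 3 ∨ i = 4 := by revert i; decide
      all_goals simp (config := {decide := true}) [h2]) this.symm
  set B : M5 := (Matrix.fromBlocks (eMat ((g : G5) : M5)) 0 0 (oMat ((g : G5) : M5))).submatrix e.symm e.symm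
    with hB
  have key : ((g : G5) : M5) * P = P * B := by
    obtain ⟨a1, b1, -⟩ := C.sym_rows g 0
    obtain ⟨a2, b2, c2⟩ := C.sym_rows g 1
    obtain ⟨a3, b3, c3⟩ := C.sym_rows g 2
    obtain ⟨a4, b4, -⟩ := C.sym_rows g 3
    obtain ⟨a5, b5, -⟩ := C.sym_rows g 4
    simp only [show -(0 : T5) = 0 from rfl, show -(1 : T5) = 4 from rfl, show -(2 : T5) = 3 from rfl,
      show -(3 : T5) = 2 from rfl, show -(4 : T5) = 1 from rfl] at a1 a2 a3 a4 a5 b1 b2 b3 b4 b5 c2 c3
    have h0 : e.symm 0 = Sum.inl 0 := rfl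
    have h1 : e.symm 1 = Sum.inl 1 := rfl
    have h2' : e.symm 2 = Sum.inl 2 := rfl
    have h3 : e.symm 3 = Sum.inr 1 := rfl
    have h4 : e.symm 4 = Sum.inr 0 := rfl
    ext i j
    obtain rfl | rfl | rfl | rfl | rfl : i = 0 ∨ i = 1 ∨ i = 2 ∨ i = 3 ∨ i = 4 := by revert i; decide
    all_goals obtain rfl | rfl | rfl | rfl | rfl : j = 0 ∨ j = 1 ∨ j = 2 ∨ j = 3 ∨ j = 4 := by revert j; decide
    all_goals
      simp (config := {decide := true}) [P, hB, Matrix.mul_apply, sum5, h0, h1, h2', h3, h4, eMat, oMat, a1, a2, a3, a4, a5, b1, b2, b3,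
        b4, b5, c2, c3] <;> ring
  have h := congrArg Matrix.det key
  rw [Matrix.det_mul, Matrix.det_mul, mul_comm P.det, hB, Matrix.det_submatrix_equiv_self,
    Matrix.det_fromBlocks_zero₂₁] at h
  exact mul_right_cancel₀ hP h

end Penta

end Cfsg.Agent.H36.SLFiveHeis
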