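import Cfsg.Agent.H54.FlipWeights
import Cfsg.Agent.H1.HeisThree.Proj

/-!
A subgroup of `GL₃(p)` normalised by a diagonal element of order five and by an element without zero entries,
in which everything commuting with the diagonal element is an involution, is trivial.
-/

set_option autoImplicit false

namespace Cfsg.Agent.H36.SLFiveHeis

open Matrix

section Orbit

variable {F : Type*} [Field F] {ι : Type} [Fintype ι] [DecidableEq ι]

/-- An element of order prime to the characteristic commuting with its five conjugates is centralised. -/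
theorem comm_of_orbit (hd : Fintype.card ι < 5) {D z : GL ι F} (hD : D ^ 5 = 1) {n : ℕ} (hn : (n : F) ≠ 0)
    (hz : z ^ n = 1) (hc : ∀ i j : ℕ, Commute (D ^ i * z * (D ^ i)⁻¹) (D ^ j * z * (D ^ j)⁻¹)) :
    D * z = z * D := by
  classical
  by_contra hne
  let L := AlgebraicClosure F
  let Φ : GL ι F →* Module.End L (ι → L) :=
    ((Matrix.toLinAlgEquiv' (R := L) (n := ι)).toAlgHom.toMonoidHom.comp
      (((algebraMap F L).mapMatrix : Matrix ι ι F →+* Matrix ι ι L).toMonoidHom)).comp
      (Units.coeHom (Matrix ι ι F))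
  have hΦ : Function.Injective Φ := by
    intro a b h
    apply Units.ext
    have h' := (Matrix.toLinAlgEquiv' (R := L) (n := ι)).injective h
    exact Matrix.map_injective (algebraMap F L).injective h'
  let zi : ZMod 5 → GL ι F := fun i => D ^ i.val * z * (D ^ i.val)⁻¹
  have hstep : ∀ i, D * zi i * D⁻¹ = zi (i + 1) := by
    intro i
    have e : D ^ (i + 1).val = D * D ^ i.val := by
      rw [← pow_succ', ZMod.val_add, ← pow_eq_pow_mod _ hD]
      rfl
    simp only [zi, e]
    group
  let A : ZMod 5 → Module.End L (ι → L) := fun i => Φ (zi i)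
  have hA : ∀ i j, Commute (A i) (A j) := fun i j => (hc _ _).map Φ
  set w := zi 0 * (zi 1)⁻¹ with hw
  have hw1 : w ≠ 1 := by
    intro h
    rw [hw, mul_inv_eq_one] at h
    apply hne
    simp only [zi, ZMod.val_zero, pow_zero, one_mul, inv_one, mul_one, show (1 : ZMod 5).val = 1 from rfl,
      pow_one] at h
    nth_rw 2 [h]
    group
  have hwn : w ^ n = 1 := by
    have h01 : Commute (zi 0) (zi 1)⁻¹ := (hc _ _ : Commute (zi 0) (zi 1)).inv_right
    rw [hw, h01.mul_pow, inv_pow, show zi 0 = z by simp [zi],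
      show zi 1 = D * z * D⁻¹ by simp [zi, show (1 : ZMod 5).val = 1 from rfl],
      conj_pow, hz, mul_one, mul_inv_cancel, inv_one, mul_one]
  obtain ⟨b, hb1, hb⟩ := Cfsg.Agent.H54.exists_eigenvalue_ne_one (Φ w) (m := n)
    (fun h => hn ((algebraMap F L).injective (by rw [map_natCast, h, map_zero])))
    (by rw [← map_pow, hwn, map_one]) (fun h => hw1 (hΦ (by rw [h, map_one])))
  have hAw : ∀ i, Commute (A i) (Φ w) := fun i =>
    ((hc _ _ : Commute (zi i) (zi 0)).mul_right (hc _ _ : Commute (zi i) (zi 1)).inv_right).map Φ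
  obtain ⟨U, hUW, hU, -, hUs⟩ := Cfsg.Agent.H54.exists_common_eigenvector A hA Finset.univ
    ((Φ w).eigenspace b) hb (fun i v hv => by
      rw [Module.End.mem_eigenspace_iff] at hv ⊢
      have := LinearMap.congr_fun (hAw i).eq v
      simp only [Module.End.mul_apply] at this
      rw [← this, hv, map_smul])
  obtain ⟨v, hvU, hv0⟩ := Submodule.exists_mem_ne_zero_of_ne_bot hU
  choose χ hχ using fun i => hUs i (Finset.mem_univ i)
  have hχv : ∀ i, A i v = χ i • v := fun i => hχ i v hvU
  have h01 : χ 0 ≠ χ 1 := by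
    intro h
    have h1 : χ 1 ≠ 0 := by
      intro h0
      have := congrArg (fun f : Module.End L (ι → L) => f v)
        (show Φ (zi 1)⁻¹ * A 1 = 1 by show Φ _ * Φ _ = 1; rw [← map_mul, inv_mul_cancel, map_one])
      simp only [Module.End.mul_apply, Module.End.one_apply, hχv, h0, zero_smul, map_zero] at this
      exact hv0 this.symm
    have h2 : Φ w * A 1 = A 0 := by
      show Φ _ * Φ _ = Φ _
      rw [← map_mul, hw, inv_mul_cancel_right]
    have := LinearMap.congr_fun h2 v
    simp only [Module.End.mul_apply, hχv, map_smul, Module.End.mem_eigenspace_iff.1 (hUW hvU),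
      smul_smul, h] at this
    have h3 := smul_left_injective L hv0 this
    exact hb1 (mul_left_cancel₀ h1 (h3.trans (mul_one _).symm))
  -- the translates of the character
  let T : ZMod 5 → (ZMod 5 → L) := fun k i => χ (i - k)
  have hT : Function.Injective T := by
    intro k k' h
    by_contra hkk
    apply h01
    have per : ∀ i, χ (i + (k - k')) = χ i := fun i => by
      have h' := (congrFun h (i + k)).symm
      simp only [T, add_sub_cancel_right] at h'
      rw [← h', add_sub]
    have per' : ∀ m : ℕ, χ (0 + (m : ZMod 5) * (k - k')) = χ 0 := by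
      intro m
      induction m with
      | zero => simp
      | succ m ih => rw [Nat.cast_succ, add_mul, one_mul, ← add_assoc, per, ih]
    have := per' ((k - k')⁻¹).val
    rw [ZMod.natCast_zmod_val, (haveI := Fact.mk (show Nat.Prime 5 by norm_num); inv_mul_cancel₀ (sub_ne_zero.2 hkk) : (k - k')⁻¹ * (k - k') = 1), zero_add] at this
    exact this.symm
  have hpre : ∀ k : ℕ, ∃ u : ι → L, u ≠ 0 ∧ ∀ i, A i u = χ (i - k) • u := by
    intro k
    induction k with
    | zero => exact ⟨v, hv0, fun i => by simpa using hχv i⟩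
    | succ k ih =>
      obtain ⟨u, hu0, hu⟩ := ih
      refine ⟨Φ D u, fun h => hu0 ?_, fun i => ?_⟩
      · have := congrArg (Φ D⁻¹) h
        rwa [← Module.End.mul_apply, ← map_mul, inv_mul_cancel, map_one, Module.End.one_apply,
          map_zero] at this
      · have hz' : zi i = D * zi (i - 1) * D⁻¹ := by rw [hstep, sub_add_cancel]
        show Φ (zi i) (Φ D u) = _
        rw [hz', ← Module.End.mul_apply, ← map_mul, inv_mul_cancel_right, map_mul, Module.End.mul_apply,
          show Φ (zi (i - 1)) = A (i - 1) from rfl, hu, map_smul, Nat.cast_succ]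
        congr 2
        ring
  have h5 := Cfsg.Agent.H54.card_eigencharacters_le A (Finset.univ.image T) (fun ψ hψ => by
    obtain ⟨k, -, rfl⟩ := Finset.mem_image.1 hψ
    obtain ⟨u, hu0, hu⟩ := hpre k.val
    exact ⟨u, hu0, fun i => by rw [hu, ZMod.natCast_zmod_val]⟩)
  rw [Finset.card_image_of_injective _ hT, Finset.card_univ, ZMod.card, Module.finrank_fintype_fun_eq_card] at h5
  omega

end Orbit

section Three

variable {F : Type*} [Field F] [Fintype F] {p : ℕ}

local notation "G3" => GL (Fin 3) F
local notation "M3" => Matrix (Fin 3) (Fin 3) F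

omit [Fintype F] in
theorem diag_of_comm {d : Fin 3 → F} (hinj : Function.Injective d) {D k : G3}
    (hD : (D : M3) = Matrix.diagonal d) (h : D * k = k * D) (i j : Fin 3) (hij : i ≠ j) :
    (k : M3) i j = 0 := by
  have := congrArg (fun x : G3 => (x : M3) i j) h
  simp only [Units.val_mul, hD, Matrix.mul_diagonal, Matrix.diagonal_mul] at this
  have h' : (k : M3) i j * (d i - d j) = 0 := by linear_combination this
  exact (mul_eq_zero.1 h').resolve_right (sub_ne_zero.2 (hinj.ne hij))

omit [Fintype F] in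
/-- The entries of a conjugate by a power of a diagonal element. -/
theorem conj_apply {d : Fin 3 → F} {D : G3} (hD : (D : M3) = Matrix.diagonal d) (k : ℕ) (y : G3) (i j : Fin 3)
    (hd : d j ≠ 0) :
    ((D ^ k * y * (D ^ k)⁻¹ : G3) : M3) i j = (d i / d j) ^ k * (y : M3) i j := by
  have h : ((D ^ k * y * (D ^ k)⁻¹ : G3) : M3) * ((D ^ k : G3) : M3) = ((D ^ k : G3) : M3) * (y : M3) := by
    rw [← Units.val_mul, ← Units.val_mul, inv_mul_cancel_right]
  have := congrFun (congrFun h i) j
  rw [Units.val_pow_eq_pow_val, hD, Matrix.diagonal_pow, Matrix.mul_diagonal, Matrix.diagonal_mul,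
    Pi.pow_apply, Pi.pow_apply] at this
  rw [div_pow, div_mul_eq_mul_div, eq_div_iff (pow_ne_zero _ hd)]
  exact this

omit [Fintype F] in
/-- A plane block commuting up to sign with its conjugates is diagonal or antidiagonal. -/
theorem plane_cases (h2 : (2 : F) ≠ 0) {a b e d ρ : F} (hdet : a * d - b * e ≠ 0) (hρ5 : ρ ^ 5 = 1) (hρ : ρ ≠ 1)
    (s1 : (a + d) * b = 0) (s2 : (a + d) * e = 0)
    (h : ∀ k : ℕ, k = 1 ∨ k = 2 → ∃ c : F, (c = 1 ∨ c = -1) ∧
      a * a + b * (e * (1 / ρ) ^ k) = c * (a * a + (b * ρ ^ k) * e) ∧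
      a * (b * ρ ^ k) + b * d = c * (a * b + (b * ρ ^ k) * d) ∧
      e * a + d * (e * (1 / ρ) ^ k) = c * ((e * (1 / ρ) ^ k) * a + d * e)) :
    (b = 0 ∧ e = 0) ∨ (a = 0 ∧ d = 0) := by
  by_cases hbe : b = 0 ∧ e = 0
  · exact Or.inl hbe
  have had : d = -a := by
    rcases not_and_or.1 hbe with hb | he
    · linear_combination (mul_eq_zero.1 s1).resolve_right hb
    · linear_combination (mul_eq_zero.1 s2).resolve_right he
  subst had
  by_cases ha : a = 0
  · exact Or.inr ⟨ha, by rw [ha, neg_zero]⟩
  exfalso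
  have hρ0 : ρ ≠ 0 := fun h => by rw [h, zero_pow (by norm_num)] at hρ5; exact zero_ne_one hρ5
  have r1 : (1 : F) / ρ = ρ ^ 4 := by
    rw [div_eq_iff hρ0, ← pow_succ, hρ5]
  rw [r1] at h
  obtain ⟨c, hc, e00, e01, e10⟩ := h 1 (Or.inl rfl)
  obtain ⟨c', hc', f00, f01, f10⟩ := h 2 (Or.inr rfl)
  rcases hc with rfl | rfl
  · rcases not_and_or.1 hbe with hb | he
    · have h0 : (2 : F) * (a * b) * (ρ - 1) = 0 := by linear_combination e01
      exact mul_ne_zero (mul_ne_zero h2 (mul_ne_zero ha hb)) (sub_ne_zero.2 hρ) h0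
    · have h0 : (2 : F) * (a * e) * (ρ ^ 4 - 1) = 0 := by linear_combination -e10
      refine mul_ne_zero (mul_ne_zero h2 (mul_ne_zero ha he)) (sub_ne_zero.2 fun h4 => hρ ?_) h0
      rw [pow_succ, h4, one_mul] at hρ5
      exact hρ5
  rcases hc' with rfl | rfl
  · rcases not_and_or.1 hbe with hb | he
    · have h0 : (2 : F) * (a * b) * (ρ ^ 2 - 1) = 0 := by linear_combination f01
      refine mul_ne_zero (mul_ne_zero h2 (mul_ne_zero ha hb)) (sub_ne_zero.2 fun h4 => hρ ?_) h0
      linear_combination hρ5 - (ρ ^ 3 + ρ) * h4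
    · have h0 : (2 : F) * (a * e) * ((ρ ^ 4) ^ 2 - 1) = 0 := by linear_combination -f10
      refine mul_ne_zero (mul_ne_zero h2 (mul_ne_zero ha he)) (sub_ne_zero.2 fun h4 => hρ ?_) h0
      have e3 : ρ ^ 3 = 1 := by linear_combination h4 - ρ ^ 3 * hρ5
      linear_combination (ρ ^ 3 + 1) * e3 - ρ * hρ5
  have k1 : 2 * (a * a) + b * e * (ρ + ρ ^ 4) = 0 := by linear_combination e00
  have k2 : 2 * (a * a) + b * e * (ρ ^ 2 + ρ ^ 3) = 0 := by linear_combination f00 - b * e * ρ ^ 3 * hρ5
  have hr : ρ + ρ ^ 4 - ρ ^ 2 - ρ ^ 3 ≠ 0 := by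
    intro h0
    have h0' : ρ * (1 - ρ) * (1 - ρ ^ 2) = 0 := by linear_combination h0
    rcases mul_eq_zero.1 h0' with h0'' | h0''
    · exact mul_ne_zero hρ0 (sub_ne_zero.2 hρ.symm) h0''
    · exact hρ (by linear_combination hρ5 + (ρ ^ 3 + ρ) * h0'')
  have hbe0 : b * e = 0 :=
    (mul_eq_zero.1 (show b * e * (ρ + ρ ^ 4 - ρ ^ 2 - ρ ^ 3) = 0 by linear_combination k1 - k2)).resolve_right hr
  rw [hbe0, zero_mul, add_zero] at k1
  exact mul_ne_zero h2 (mul_ne_zero ha ha) k1

set_option maxHeartbeats 1000000 in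
/-- The kernel is trivial. -/
theorem kernel_trivial (hp : p.Prime) (hF : Fintype.card F = p) (hp7 : 7 ≤ p) {K : Subgroup G3}
    (hdet : ∀ k ∈ K, (k : M3).det = 1) {D E : G3} {d : Fin 3 → F} (hD : (D : M3) = Matrix.diagonal d)
    (hinj : Function.Injective d) (hd5 : ∀ i, d i ^ 5 = 1) (hE : ∀ i j, (E : M3) i j ≠ 0)
    (hDK : ∀ k ∈ K, D * k * D⁻¹ ∈ K) (hEK : ∀ k ∈ K, E * k * E⁻¹ ∈ K)
    (hsq : ∀ k ∈ K, D * k = k * D → k * k = 1) : K = ⊥ := by
  classical
  have := Fact.mk hp
  have : CharP F p := Cfsg.Agent.H1.HeisThree.charP_of_card hp hF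
  have hcast : ∀ q : ℕ, q.Prime → q ≠ p → (q : F) ≠ 0 := fun q hq hqp h =>
    hqp ((Nat.prime_dvd_prime_iff_eq hp hq).1 ((CharP.cast_eq_zero_iff F p q).1 h)).symm
  have h2 : (2 : F) ≠ 0 := by exact_mod_cast hcast 2 Nat.prime_two (by omega)
  have hd0 : ∀ i, d i ≠ 0 := fun i h => by
    have := hd5 i
    rw [h, zero_pow (by norm_num)] at this
    exact zero_ne_one this
  have hD5 : D ^ 5 = 1 := by
    apply Units.ext
    rw [Units.val_pow_eq_pow_val, hD, Matrix.diagonal_pow, Units.val_one, ← Matrix.diagonal_one]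
    congr 1
    funext i
    exact hd5 i
  have hDpow : ∀ (i : ℕ), ∀ k ∈ K, D ^ i * k * (D ^ i)⁻¹ ∈ K := by
    intro i
    induction i with
    | zero => intro k hk; simpa using hk
    | succ i ih => intro k hk; rw [pow_succ', show D * D ^ i * k * (D * D ^ i)⁻¹ =
        D * (D ^ i * k * (D ^ i)⁻¹) * D⁻¹ by group]; exact hDK _ (ih k hk)
  -- the action of the cyclic group of order five
  let Γ : Subgroup G3 := Subgroup.zpowers D
  have hΓK : ∀ γ ∈ Γ, ∀ k ∈ K, γ * k * γ⁻¹ ∈ K := by
    intro γ hγ k hk
    obtain ⟨i, rfl⟩ := (isOfFinOrder_of_finite D).mem_powers_iff_mem_zpowers.2 hγ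
    exact hDpow i k hk
  let act : MulDistribMulAction Γ K :=
    { smul := fun γ k => ⟨γ * k * (γ : G3)⁻¹, hΓK γ γ.2 k k.2⟩
      one_smul := fun k => Subtype.ext (by show (1 : G3) * k * 1⁻¹ = k; group)
      mul_smul := fun a b k => Subtype.ext (by
        show ((a : G3) * b) * k * ((a : G3) * b)⁻¹ = a * (b * k * (b : G3)⁻¹) * (a : G3)⁻¹; group)
      smul_one := fun a => Subtype.ext (by show (a : G3) * 1 * (a : G3)⁻¹ = 1; group)
      smul_mul := fun a x y => Subtype.ext (by
        show (a : G3) * ((x : G3) * y) * (a : G3)⁻¹ = a * x * (a : G3)⁻¹ * (a * y * (a : G3)⁻¹); group) }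
  let _ := act
  have := Fact.mk (show Nat.Prime 5 by norm_num)
  have hΓ : IsPGroup 5 Γ := by
    rintro ⟨γ, hγ⟩
    obtain ⟨i, rfl⟩ := (isOfFinOrder_of_finite D).mem_powers_iff_mem_zpowers.2 hγ
    refine ⟨1, Subtype.ext ?_⟩
    show (D ^ i) ^ 5 ^ 1 = 1
    rw [pow_one, ← pow_mul, mul_comm, pow_mul, hD5, one_pow]
  -- the centraliser of `D` in `K`
  let C0 : Subgroup K := (Subgroup.centralizer ({D} : Set G3)).subgroupOf K
  have hC0 : ∀ k : K, k ∈ C0 ↔ D * (k : G3) = k * D := fun k => by
    rw [Subgroup.mem_subgroupOf, Subgroup.mem_centralizer_singleton_iff, eq_comm]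
  have hfix : ∀ k : K, k ∈ MulAction.fixedPoints Γ K ↔ k ∈ C0 := by
    intro k
    rw [hC0, MulAction.mem_fixedPoints]
    constructor
    · intro h
      have h' : D * (k : G3) * D⁻¹ = k := congrArg Subtype.val (h ⟨D, Subgroup.mem_zpowers D⟩)
      rwa [mul_inv_eq_iff_eq_mul] at h'
    · rintro h ⟨γ, hγ⟩
      obtain ⟨i, rfl⟩ := (isOfFinOrder_of_finite D).mem_powers_iff_mem_zpowers.2 hγ
      apply Subtype.ext
      show D ^ i * (k : G3) * (D ^ i)⁻¹ = k
      rw [((show Commute D (k : G3) from h).pow_left i).eq, mul_inv_cancel_right]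
  have hC02 : IsPGroup 2 C0 := fun k =>
    ⟨1, Subtype.ext (Subtype.ext (by
      show ((k : K) : G3) ^ 2 ^ 1 = 1
      rw [pow_one, pow_two, hsq _ (k : K).2 ((hC0 _).1 k.2)]))⟩
  have h5K : ¬ 5 ∣ Nat.card K := by
    intro h5
    have hm := hΓ.card_modEq_card_fixedPoints K
    rw [Nat.card_congr (Equiv.subtypeEquivRight hfix : MulAction.fixedPoints Γ K ≃ C0)] at hm
    obtain ⟨n, hn⟩ := IsPGroup.iff_card.1 hC02
    have h5' : 5 ∣ Nat.card C0 := Nat.modEq_zero_iff_dvd.1 (hm.symm.trans (Nat.modEq_zero_iff_dvd.2 h5))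
    rw [hn] at h5'
    have := Nat.le_of_dvd (by norm_num) ((show Nat.Prime 5 by norm_num).dvd_of_dvd_pow h5')
    omega
  -- invariant Sylow subgroups
  have hinv : ∀ q : ℕ, q.Prime → ∃ Q : Sylow q K, ∀ k ∈ Q, ∀ i : ℕ,
      (⟨_, hDpow i (k : G3) k.2⟩ : K) ∈ Q := by
    intro q hq
    have := Fact.mk hq
    obtain ⟨Q, hQ⟩ := hΓ.nonempty_fixed_point_of_prime_not_dvd_card (Sylow q K) (fun h5 =>
      h5K (h5.trans ((Sylow.card_dvd_index default).trans (Subgroup.index_dvd_card _))))
    refine ⟨Q, fun k hk i => ?_⟩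
    have h1 := hQ ⟨D ^ i, Subgroup.pow_mem _ (Subgroup.mem_zpowers D) i⟩
    rw [← h1]
    exact ⟨k, hk, rfl⟩
  have hcen : ∀ q : ℕ, q.Prime → q ≠ p → ∀ (Q : Sylow q K), (∀ k ∈ Q, ∀ i : ℕ,
      (⟨_, hDpow i (k : G3) k.2⟩ : K) ∈ Q) →
      ∀ z : Q, z ∈ Subgroup.center Q → ((z : K) : K) ∈ C0 := by
    intro q hq hqp Q hQ z hz
    have := Fact.mk hq
    obtain ⟨n, hn⟩ := Q.2 z
    have hz0 : ((z : K) : G3) ^ q ^ n = 1 := congrArg (fun x : Q => ((x : K) : G3)) hn
    rw [hC0]
    refine comm_of_orbit (by simp) hD5 (n := q ^ n) ?_ hz0 fun i j => ?_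
    · rw [Nat.cast_pow]; exact pow_ne_zero _ (hcast q hq hqp)
    -- conjugates of a central element are central
    let zj : Q := ⟨_, hQ z z.2 j⟩
    have hzj : zj ∈ Subgroup.center Q := by
      refine Subgroup.mem_center_iff.2 fun x => ?_
      have hmul : ∀ m : ℕ, (D ^ m) ^ 5 = 1 := fun m => by rw [← pow_mul, mul_comm, pow_mul, hD5, one_pow]
      let x' : Q := ⟨_, hQ x x.2 (4 * j)⟩
      have hc := congrArg (fun y : Q => ((y : K) : G3)) (Subgroup.mem_center_iff.1 hz x')
      simp only [Subgroup.coe_mul, x'] at hc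
      have e : D ^ (4 * j) = (D ^ j)⁻¹ := by
        apply eq_inv_of_mul_eq_one_left
        rw [← pow_add, show 4 * j + j = j * 5 by ring, pow_mul, hmul j]
      simp only [e] at hc
      have hc' : (D ^ j)⁻¹ * ((x : K) : G3) * (D ^ j)⁻¹⁻¹ * ((z : K) : G3) =
          ((z : K) : G3) * ((D ^ j)⁻¹ * ((x : K) : G3) * (D ^ j)⁻¹⁻¹) := hc
      apply Subtype.ext
      apply Subtype.ext
      simp only [Subgroup.coe_mul, zj]
      calc ((x : K) : G3) * (D ^ j * ((z : K) : G3) * (D ^ j)⁻¹)
          = D ^ j * ((D ^ j)⁻¹ * ((x : K) : G3) * (D ^ j)⁻¹⁻¹ * ((z : K) : G3)) * (D ^ j)⁻¹ := by group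
        _ = D ^ j * (((z : K) : G3) * ((D ^ j)⁻¹ * ((x : K) : G3) * (D ^ j)⁻¹⁻¹)) * (D ^ j)⁻¹ := by rw [hc']
        _ = D ^ j * ((z : K) : G3) * (D ^ j)⁻¹ * ((x : K) : G3) := by group
    exact congrArg (fun y : Q => ((y : K) : G3)) (Subgroup.mem_center_iff.1 hzj ⟨_, hQ z z.2 i⟩)
  -- odd primes other than the characteristic
  have hodd : ∀ q : ℕ, q.Prime → q ≠ p → q ≠ 2 → ¬ q ∣ Nat.card K := by
    intro q hq hqp hq2 hdvd
    have := Fact.mk hq
    obtain ⟨Q, hQ⟩ := hinv q hq
    have : Nontrivial Q := (Subgroup.nontrivial_iff_ne_bot _).2 (Q.ne_bot_of_dvd_card hdvd)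
    have := Q.2.center_nontrivial
    obtain ⟨⟨z, hz⟩, hz1⟩ := exists_ne (1 : Subgroup.center Q)
    have h := hcen q hq hqp Q hQ z hz
    have hzz : z * z = 1 :=
      Subtype.ext (Subtype.ext (hsq _ (z : K).2 ((hC0 _).1 h)))
    obtain ⟨n, hn⟩ := Q.2 z
    refine hz1 (Subtype.ext ?_)
    show z = 1
    have h1 := Nat.eq_one_of_dvd_coprimes (Nat.Coprime.pow_right n ((Nat.coprime_primes Nat.prime_two hq).2 hq2.symm))
      (orderOf_dvd_of_pow_eq_one (by rw [pow_two]; exact hzz)) (orderOf_dvd_of_pow_eq_one hn)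
    exact orderOf_eq_one_iff.1 h1
  -- no antidiagonal elements
  have hanti : ∀ k ∈ K, ∀ r t : Fin 3, r ≠ t → (k : M3) r r = 0 → (∀ s, s ≠ t → (k : M3) r s = 0) →
      (∀ s, s ≠ r → (k : M3) t s = 0) → (k : M3) t t = 0 → False := by
    intro k hk r t hrt _ hr ht _
    have hrt0 : (k : M3) r t ≠ 0 := by
      intro h
      have := Matrix.det_eq_zero_of_row_eq_zero (A := (k : M3)) r (fun s => by
        by_cases hs : s = t
        · rw [hs, h]
        · exact hr s hs)
      rw [hdet k hk] at this
      exact one_ne_zero this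
    set c := D * k * D⁻¹ * k⁻¹ with hc
    have hcK : c ∈ K := mul_mem (hDK k hk) (inv_mem hk)
    have hcrow : ∀ s, (c : M3) r s = if s = r then d r / d t else 0 := by
      intro s
      have h : (c : M3) * (k : M3) = ((D ^ 1 * k * (D ^ 1)⁻¹ : G3) : M3) := by
        rw [← Units.val_mul, hc, pow_one, inv_mul_cancel_right]
      have h' : ((D ^ 1 * k * (D ^ 1)⁻¹ : G3) : M3) r = fun s => (d r / d t) * (k : M3) r s := by
        funext s
        rw [conj_apply hD 1 k r s (hd0 s), pow_one]
        by_cases hs : s = t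
        · rw [hs]
        · rw [hr s hs, mul_zero, mul_zero]
      have h'' : Matrix.vecMul ((c : M3) r - fun s => if s = r then d r / d t else 0) (k : M3) = 0 := by
        rw [Matrix.sub_vecMul, sub_eq_zero]
        funext s
        have := congrFun (congrFun h r) s
        rw [Matrix.mul_apply] at this
        simp only [Matrix.vecMul, dotProduct, ite_mul, zero_mul, Finset.sum_ite_eq', Finset.mem_univ, if_true]
        rw [this, h']
      have h3 := congrArg (fun v => Matrix.vecMul v ((k⁻¹ : G3) : M3)) h''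
      simp only [Matrix.vecMul_vecMul, Units.mul_inv, Matrix.vecMul_one, Matrix.zero_vecMul] at h3
      exact sub_eq_zero.1 (congrFun h3 s)
    have hpow : ∀ n : ℕ, ∀ s, ((c ^ n : G3) : M3) r s = if s = r then (d r / d t) ^ n else 0 := by
      intro n
      induction n with
      | zero => intro s; rw [pow_zero, Units.val_one, pow_zero, Matrix.one_apply]; simp [eq_comm]
      | succ n ih =>
        intro s
        rw [pow_succ, Units.val_mul, Matrix.mul_apply]
        simp only [ih, ite_mul, zero_mul, Finset.sum_ite_eq', Finset.mem_univ, if_true, hcrow, mul_ite,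
          mul_zero, pow_succ]
    -- the order of `c` is prime to five
    have h5c : Nat.Coprime 5 (Nat.card K) := (Nat.Prime.coprime_iff_not_dvd (by norm_num)).2 h5K
    have hone : (d r / d t) ^ Nat.card K = 1 := by
      have hcard : c ^ Nat.card K = 1 := congrArg Subtype.val (pow_card_eq_one' (x := (⟨c, hcK⟩ : K)))
      have := hpow (Nat.card K) r
      rw [hcard, Units.val_one, Matrix.one_apply_eq, if_pos rfl] at this
      exact this.symm
    have h1 := Nat.eq_one_of_dvd_coprimes h5c
      (orderOf_dvd_of_pow_eq_one (x := d r / d t) (by rw [div_pow, hd5, hd5, div_one]))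
      (orderOf_dvd_of_pow_eq_one hone)
    rw [orderOf_eq_one_iff, div_eq_one_iff_eq (hd0 t)] at h1
    exact hrt (hinj h1)
  -- the Sylow two-subgroup centralises `D`
  obtain ⟨Q, hQ⟩ := hinv 2 Nat.prime_two
  have := Fact.mk Nat.prime_two
  have hp2 : (2 : ℕ) ≠ p := by omega
  have hdiag : ∀ k : K, k ∈ C0 → ∀ i j, i ≠ j → ((k : G3) : M3) i j = 0 := fun k hk i j hij =>
    diag_of_comm hinj hD ((hC0 k).1 hk) i j hij
  have hsign : ∀ k : K, k ∈ C0 → ∀ i, ((k : G3) : M3) i i = 1 ∨ ((k : G3) : M3) i i = -1 := by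
    intro k hk i
    have := congrFun (congrFun (congrArg (fun g : G3 => (g : M3)) (hsq _ k.2 ((hC0 k).1 hk))) i) i
    rw [Units.val_mul, Matrix.mul_apply, Finset.sum_eq_single i, Units.val_one, Matrix.one_apply_eq] at this
    · exact mul_self_eq_one_iff.1 this
    · intro j _ hj; rw [hdiag k hk i j hj.symm, zero_mul]
    · simp
  have hQC : ∀ y ∈ Q, y ∈ C0 := by
    by_cases hQ1 : Nontrivial Q
    swap
    · intro y hy
      have := not_nontrivial_iff_subsingleton.1 hQ1
      have : (⟨y, hy⟩ : Q) = 1 := Subsingleton.elim _ _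
      rw [show y = 1 from congrArg Subtype.val this]
      exact one_mem _
    have := Q.2.center_nontrivial
    obtain ⟨⟨z, hz⟩, hz1⟩ := exists_ne (1 : Subgroup.center Q)
    have hzC := hcen 2 Nat.prime_two hp2 Q hQ z hz
    -- the position of the fixed line
    obtain ⟨s, r, t, hrs, hts, hrt, hzr, hzt⟩ : ∃ s r t : Fin 3, r ≠ s ∧ t ≠ s ∧ r ≠ t ∧
        (((z : K) : G3) : M3) r r ≠ (((z : K) : G3) : M3) s s ∧ (((z : K) : G3) : M3) t t ≠ (((z : K) : G3) : M3) s s := by
      have hne : ¬ ((((z : K) : G3) : M3) 0 0 = (((z : K) : G3) : M3) 1 1 ∧ (((z : K) : G3) : M3) 0 0 = (((z : K) : G3) : M3) 2 2) := by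
        rintro ⟨h1, h2'⟩
        refine hz1 (Subtype.ext (Subtype.ext (Subtype.ext (Units.ext ?_))))
        show (((z : K) : G3) : M3) = 1
        set c := (((z : K) : G3) : M3) 0 0 with hc
        have hzm : (((z : K) : G3) : M3) = c • 1 := by
          ext i j
          by_cases hij : i = j
          · subst hij
            fin_cases i <;> simp [← h1, ← h2', hc]
          · rw [hdiag _ hzC i j hij, Matrix.smul_apply, Matrix.one_apply_ne hij, smul_zero]
        have hdz := hdet _ (z : K).2
        rw [hzm, Matrix.det_smul, Matrix.det_one, mul_one, Fintype.card_fin] at hdz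
        rcases hsign _ hzC 0 with h | h <;> rw [← hc] at h
        · rw [hzm, h, one_smul]
        · rw [h] at hdz
          exact absurd (show (2 : F) = 0 by linear_combination -hdz) h2
      by_cases h01 : (((z : K) : G3) : M3) 1 1 = (((z : K) : G3) : M3) 0 0
      · have h02 := fun h => hne ⟨h01.symm, h⟩
        exact ⟨2, 0, 1, by decide, by decide, by decide, h02, fun h => h02 (h01.symm.trans h)⟩
      by_cases h02 : (((z : K) : G3) : M3) 2 2 = (((z : K) : G3) : M3) 0 0
      · exact ⟨1, 0, 2, by decide, by decide, by decide, Ne.symm h01, fun h => h01 (h.symm.trans h02)⟩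
      exact ⟨0, 1, 2, by decide, by decide, by decide, h01, h02⟩
    have huniv : ∀ i : Fin 3, i = s ∨ i = r ∨ i = t := fun i =>
      (by decide : ∀ s r t i : Fin 3, r ≠ s → t ≠ s → r ≠ t → i = s ∨ i = r ∨ i = t) s r t i hrs hts hrt
    have hblock : ∀ x ∈ Q, ∀ i, (((i = r ∨ i = t) → ((x : G3) : M3) i s = 0 ∧ ((x : G3) : M3) s i = 0)) := by
      intro x hx i hi
      have hc := congrArg (fun y : Q => (((y : K) : G3) : M3)) (Subgroup.mem_center_iff.1 hz ⟨x, hx⟩)
      simp only [Subgroup.coe_mul, Units.val_mul] at hc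
      have hne : (((z : K) : G3) : M3) i i - (((z : K) : G3) : M3) s s ≠ 0 := by
        rcases hi with rfl | rfl
        exacts [sub_ne_zero.2 hzr, sub_ne_zero.2 hzt]
      have hdz : ∀ a b, a ≠ b → (((z : K) : G3) : M3) a b = 0 := hdiag _ hzC
      constructor
      · have := congrFun (congrFun hc i) s
        rw [Matrix.mul_apply, Matrix.mul_apply,
          Finset.sum_eq_single s (fun j _ hj => by rw [hdz j s hj, mul_zero]) (by simp),
          Finset.sum_eq_single i (fun j _ hj => by rw [hdz i j hj.symm, zero_mul]) (by simp)] at this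
        exact (mul_eq_zero.1 (show ((x : G3) : M3) i s * ((((z : K) : G3) : M3) i i - (((z : K) : G3) : M3) s s) = 0 by
          linear_combination -this)).resolve_right hne
      · have := congrFun (congrFun hc s) i
        rw [Matrix.mul_apply, Matrix.mul_apply,
          Finset.sum_eq_single i (fun j _ hj => by rw [hdz j i hj, mul_zero]) (by simp),
          Finset.sum_eq_single s (fun j _ hj => by rw [hdz s j hj.symm, zero_mul]) (by simp)] at this
        exact (mul_eq_zero.1 (show ((x : G3) : M3) s i * ((((z : K) : G3) : M3) i i - (((z : K) : G3) : M3) s s) = 0 by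
          linear_combination this)).resolve_right hne
    -- diagonal on the plane is diagonal
    have hofzero : ∀ x : K, x ∈ Q → ((x : G3) : M3) r t = 0 → ((x : G3) : M3) t r = 0 → x ∈ C0 := by
      intro x hx h1 h2'
      rw [hC0]
      apply Units.ext
      rw [Units.val_mul, Units.val_mul, hD]
      ext i j
      rw [Matrix.diagonal_mul, Matrix.mul_diagonal]
      by_cases hij : i = j
      · subst hij; ring
      · have : ((x : G3) : M3) i j = 0 := by
          rcases huniv i with rfl | rfl | rfl <;> rcases huniv j with rfl | rfl | rfl <;>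
            first
              | exact absurd rfl hij
              | exact (hblock x hx _ (Or.inl rfl)).1
              | exact (hblock x hx _ (Or.inl rfl)).2
              | exact (hblock x hx _ (Or.inr rfl)).1
              | exact (hblock x hx _ (Or.inr rfl)).2
              | assumption
        rw [this]; ring
    have hnoanti : ∀ x : K, x ∈ Q → ((x : G3) : M3) r r = 0 → ((x : G3) : M3) t t = 0 → False := by
      intro x hx h1 h2'
      refine hanti (x : G3) x.2 r t hrt h1 (fun a ha => ?_) (fun a ha => ?_) h2'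
      · rcases huniv a with rfl | rfl | rfl
        exacts [(hblock x hx r (Or.inl rfl)).1, h1, absurd rfl ha]
      · rcases huniv a with rfl | rfl | rfl
        exacts [(hblock x hx t (Or.inr rfl)).1, absurd rfl ha, h2']
    have hsum : ∀ f : Fin 3 → F, ∑ i, f i = f s + f r + f t := by
      intro f
      rw [← Finset.sum_subset (Finset.subset_univ ({s, r, t} : Finset (Fin 3))) (fun i _ hi => by
          rcases huniv i with rfl | rfl | rfl <;> simp at hi)]
      rw [Finset.sum_insert (by simp [hrs.symm, hts.symm]), Finset.sum_insert (by simp [hrt]),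
        Finset.sum_singleton, add_assoc]
    have hmul2 : ∀ x y : K, x ∈ Q → ∀ i j, (i = r ∨ i = t) → (((x * y : K) : G3) : M3) i j =
        ((x : G3) : M3) i r * ((y : G3) : M3) r j + ((x : G3) : M3) i t * ((y : G3) : M3) t j := by
      intro x y hx i j hi
      rw [Subgroup.coe_mul, Units.val_mul, Matrix.mul_apply, hsum, (hblock x hx i hi).1, zero_mul, zero_add]
    have hcenter : Subgroup.center Q = ⊤ := by
      by_contra hne
      -- an element of the second centre
      obtain ⟨y, hyn, hy⟩ : ∃ y : Q, y ∉ Subgroup.center Q ∧ ∀ x : Q, ∃ c ∈ Subgroup.center Q, y * x = c * (x * y) := by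
        have : Nontrivial (Q ⧸ Subgroup.center Q) :=
          QuotientGroup.nontrivial_iff.2 hne
        have := (Q.2.to_quotient (Subgroup.center Q)).center_nontrivial
        obtain ⟨⟨yb, hyb⟩, hyb1⟩ := exists_ne (1 : Subgroup.center (Q ⧸ Subgroup.center Q))
        obtain ⟨y, rfl⟩ := QuotientGroup.mk'_surjective _ yb
        refine ⟨y, fun h => hyb1 (Subtype.ext ((QuotientGroup.eq_one_iff y).2 h)), fun x => ?_⟩
        have h := Subgroup.mem_center_iff.1 hyb (QuotientGroup.mk' _ x)
        rw [← map_mul, ← map_mul] at h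
        refine ⟨(y * x) * (x * y)⁻¹, (QuotientGroup.eq_one_iff _).1 ?_, by rw [inv_mul_cancel_right]⟩
        show QuotientGroup.mk' _ ((y * x) * (x * y)⁻¹) = 1
        rw [map_mul, map_inv, h, mul_inv_cancel]
      have hcsign : ∀ c : Q, c ∈ Subgroup.center Q → ∃ ε : F, (ε = 1 ∨ ε = -1) ∧
          (((c : K) : G3) : M3) r r = ε ∧ ((((c : K) : G3) : M3) t t = ε ∨
            ∀ x : K, x ∈ Q → ((x : G3) : M3) r t = 0 ∧ ((x : G3) : M3) t r = 0) := by
        intro c hc
        have hcC := hcen 2 Nat.prime_two hp2 Q hQ c hc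
        refine ⟨_, hsign _ hcC r, rfl, ?_⟩
        by_cases he : (((c : K) : G3) : M3) t t = (((c : K) : G3) : M3) r r
        · exact Or.inl he
        refine Or.inr fun x hx => ?_
        have hh : ((x : G3) : M3) * (((c : K) : G3) : M3) = (((c : K) : G3) : M3) * ((x : G3) : M3) :=
          congrArg (fun y : Q => (((y : K) : G3) : M3)) (Subgroup.mem_center_iff.1 hc ⟨x, hx⟩)
        have hdc : ∀ a b, a ≠ b → (((c : K) : G3) : M3) a b = 0 := hdiag _ hcC
        have h1 := congrFun (congrFun hh r) t
        have h2' := congrFun (congrFun hh t) r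
        rw [Matrix.mul_apply, Matrix.mul_apply,
          Finset.sum_eq_single t (fun j _ hj => by rw [hdc j t hj, mul_zero]) (by simp),
          Finset.sum_eq_single r (fun j _ hj => by rw [hdc r j hj.symm, zero_mul]) (by simp)] at h1
        rw [Matrix.mul_apply, Matrix.mul_apply,
          Finset.sum_eq_single r (fun j _ hj => by rw [hdc j r hj, mul_zero]) (by simp),
          Finset.sum_eq_single t (fun j _ hj => by rw [hdc t j hj.symm, zero_mul]) (by simp)] at h2'
        have hne' := sub_ne_zero.2 he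
        exact ⟨(mul_eq_zero.1 (show ((x : G3) : M3) r t *
            ((((c : K) : G3) : M3) t t - (((c : K) : G3) : M3) r r) = 0 by linear_combination h1)).resolve_right hne',
          (mul_eq_zero.1 (show ((x : G3) : M3) t r *
            ((((c : K) : G3) : M3) t t - (((c : K) : G3) : M3) r r) = 0 by linear_combination -h2')).resolve_right hne'⟩
      have hab : (∀ x : K, x ∈ Q → ((x : G3) : M3) r t = 0 ∧ ((x : G3) : M3) t r = 0) → False := by
        intro h
        refine hyn (Subgroup.mem_center_iff.2 fun x => Subtype.ext (Subtype.ext ?_))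
        have a := hofzero x x.2 (h x x.2).1 (h x x.2).2
        have b := hofzero y y.2 (h y y.2).1 (h y y.2).2
        apply Units.ext
        show (((x : K) : G3) : M3) * (((y : K) : G3) : M3) = (((y : K) : G3) : M3) * (((x : K) : G3) : M3)
        ext i j
        rw [Matrix.mul_apply, Matrix.mul_apply]
        rw [Finset.sum_eq_single i (fun l _ hl => by rw [hdiag _ a i l hl.symm, zero_mul]) (by simp),
          Finset.sum_eq_single i (fun l _ hl => by rw [hdiag _ b i l hl.symm, zero_mul]) (by simp)]
        by_cases hij : i = j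
        · subst hij; ring
        · rw [hdiag _ a i j hij, hdiag _ b i j hij]; ring
      -- the relation with another element
      have hrel : ∀ x : Q, ∃ ε : F, (ε = 1 ∨ ε = -1) ∧ ∀ i j, (i = r ∨ i = t) →
          ((((y : K) * (x : K) : K) : G3) : M3) i j = ε * ((((x : K) * (y : K) : K) : G3) : M3) i j := by
        intro x
        obtain ⟨c, hc, hyx⟩ := hy x
        obtain ⟨ε, hε, hcr, hct | hall⟩ := hcsign c hc
        swap
        · exact (hab hall).elim
        refine ⟨ε, hε, fun i j hi => ?_⟩
        have hh : (y : K) * (x : K) = (c : K) * ((x : K) * (y : K)) := congrArg Subtype.val hyx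
        rw [hh, Subgroup.coe_mul, Units.val_mul, Matrix.mul_apply, Finset.sum_eq_single i
          (fun l _ hl => by rw [hdiag _ (hcen 2 Nat.prime_two hp2 Q hQ c hc) i l hl.symm, zero_mul]) (by simp)]
        rcases hi with rfl | rfl
        · rw [hcr]
        · rw [hct]
      set a := (((y : K) : G3) : M3) r r with hae
      set b := (((y : K) : G3) : M3) r t with hbe
      set e := (((y : K) : G3) : M3) t r with hee
      set d' := (((y : K) : G3) : M3) t t with hde
      by_cases hbe0 : b = 0 ∧ e = 0
      · -- a diagonal element not in the centre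
        have hyC := hofzero y y.2 hbe0.1 hbe0.2
        by_cases had : a = d'
        · refine hyn (Subgroup.mem_center_iff.2 fun x => Subtype.ext (Subtype.ext ?_))
          apply Units.ext
          show (((x : K) : G3) : M3) * (((y : K) : G3) : M3) = (((y : K) : G3) : M3) * (((x : K) : G3) : M3)
          ext i j
          rw [Matrix.mul_apply, Matrix.mul_apply]
          rw [Finset.sum_eq_single j (fun l _ hl => by rw [hdiag _ hyC l j hl, mul_zero]) (by simp),
            Finset.sum_eq_single i (fun l _ hl => by rw [hdiag _ hyC i l hl.symm, zero_mul]) (by simp)]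
          rcases huniv i with rfl | rfl | rfl <;> rcases huniv j with rfl | rfl | rfl <;>
            first
              | (ring; done)
              | (rw [(hblock x x.2 _ (Or.inl rfl)).1]; ring)
              | (rw [(hblock x x.2 _ (Or.inl rfl)).2]; ring)
              | (rw [(hblock x x.2 _ (Or.inr rfl)).1]; ring)
              | (rw [(hblock x x.2 _ (Or.inr rfl)).2]; ring)
              | (rw [← hae, ← hde, had]; ring)
        refine hab fun x hx => ?_
        obtain ⟨ε, hε, hr'⟩ := hrel ⟨x, hx⟩
        have err := hr' r r (Or.inl rfl)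
        have ett := hr' t t (Or.inr rfl)
        have ert := hr' r t (Or.inl rfl)
        have etr := hr' t r (Or.inr rfl)
        rw [hmul2 _ _ y.2 r r (Or.inl rfl), hmul2 _ _ hx r r (Or.inl rfl)] at err
        rw [hmul2 _ _ y.2 t t (Or.inr rfl), hmul2 _ _ hx t t (Or.inr rfl)] at ett
        rw [hmul2 _ _ y.2 r t (Or.inl rfl), hmul2 _ _ hx r t (Or.inl rfl)] at ert
        rw [hmul2 _ _ y.2 t r (Or.inr rfl), hmul2 _ _ hx t r (Or.inr rfl)] at etr
        simp only [← hae, ← hbe, ← hee, ← hde, hbe0.1, hbe0.2] at err ett ert etr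
        have ha0 : a ≠ 0 := by rcases hsign _ hyC r with h | h <;> rw [hae, h] <;> simp
        have hd0' : d' ≠ 0 := by rcases hsign _ hyC t with h | h <;> rw [hde, h] <;> simp
        rcases hε with rfl | rfl
        · exact ⟨(mul_eq_zero.1 (show ((x : G3) : M3) r t * (a - d') = 0 by linear_combination ert)).resolve_right
            (sub_ne_zero.2 had), (mul_eq_zero.1 (show ((x : G3) : M3) t r * (a - d') = 0 by
              linear_combination -etr)).resolve_right (sub_ne_zero.2 had)⟩
        · exfalso
          refine hnoanti x hx ?_ ?_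
          · exact (mul_eq_zero.1 (show (2 * a) * ((x : G3) : M3) r r = 0 by linear_combination err)).resolve_left
              (mul_ne_zero h2 ha0)
          · exact (mul_eq_zero.1 (show (2 * d') * ((x : G3) : M3) t t = 0 by linear_combination ett)).resolve_left
              (mul_ne_zero h2 hd0')
      -- the square of `y` is central
      have hy2 : y * y ∈ Subgroup.center Q := by
        refine Subgroup.mem_center_iff.2 fun x => ?_
        obtain ⟨c, hc, hyx⟩ := hy x
        have hc2 : c * c = 1 := Subtype.ext (Subtype.ext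
          (hsq _ (c : K).2 ((hC0 _).1 (hcen 2 Nat.prime_two hp2 Q hQ c hc))))
        calc x * (y * y) = c * c * (x * y * y) := by rw [hc2, one_mul, mul_assoc]
          _ = c * (c * (x * y)) * y := by group
          _ = c * (y * x) * y := by rw [hyx]
          _ = (c * y) * (x * y) := by group
          _ = (y * c) * (x * y) := by rw [Subgroup.mem_center_iff.1 hc y]
          _ = y * (c * (x * y)) := mul_assoc _ _ _
          _ = y * y * x := by rw [← hyx, mul_assoc]
      have hy2d := hdiag _ (hcen 2 Nat.prime_two hp2 Q hQ _ hy2)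
      have s1 := hy2d r t hrt
      have s2 := hy2d t r hrt.symm
      rw [show (((y * y : Q) : K)) = (y : K) * (y : K) from rfl, hmul2 _ _ y.2 r t (Or.inl rfl)] at s1
      rw [show (((y * y : Q) : K)) = (y : K) * (y : K) from rfl, hmul2 _ _ y.2 t r (Or.inr rfl)] at s2
      rw [← hae, ← hbe, ← hde] at s1
      rw [← hae, ← hee, ← hde] at s2
      have hdet2 : a * d' - b * e ≠ 0 := by
        have hyy := hy2d
        intro h0
        have h1 : ((((y : K) * (y : K) : K) : G3) : M3) r r = a * a + b * e := by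
          rw [hmul2 _ _ y.2 r r (Or.inl rfl), ← hae, ← hbe, ← hee]
        have hsg := hsign _ (hcen 2 Nat.prime_two hp2 Q hQ _ hy2) r
        rw [show (((y * y : Q) : K)) = (y : K) * (y : K) from rfl, h1] at hsg
        have had' : d' = -a := by
          rcases not_and_or.1 hbe0 with hb | he
          · linear_combination (mul_eq_zero.1 (show (a + d') * b = 0 by linear_combination s1)).resolve_right hb
          · linear_combination (mul_eq_zero.1 (show (a + d') * e = 0 by linear_combination s2)).resolve_right he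
        rw [had'] at h0
        rcases hsg with h | h
        · exact one_ne_zero (show (1 : F) = 0 by linear_combination -h0 - h)
        · exact one_ne_zero (show (1 : F) = 0 by linear_combination h + h0)
      set ρ := d r / d t with hρ
      have hρ5 : ρ ^ 5 = 1 := by rw [hρ, div_pow, hd5, hd5, div_one]
      have hρ1 : ρ ≠ 1 := fun h => hrt (hinj ((div_eq_one_iff_eq (hd0 t)).1 h))
      rcases plane_cases h2 hdet2 hρ5 hρ1 (by linear_combination s1) (by linear_combination s2) (fun k _ => by
          obtain ⟨ε, hε, hr'⟩ := hrel ⟨_, hQ y y.2 k⟩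
          refine ⟨ε, hε, ?_, ?_, ?_⟩
          · have := hr' r r (Or.inl rfl)
            rw [hmul2 _ _ y.2 r r (Or.inl rfl), hmul2 _ _ (hQ y y.2 k) r r (Or.inl rfl)] at this
            simp only [conj_apply hD k _ _ _ (hd0 _), div_self (hd0 r), one_pow, one_mul, ← hae, ← hbe,
              ← hee, ← hρ, show d t / d r = 1 / ρ by rw [hρ, one_div_div]] at this
            linear_combination this
          · have := hr' r t (Or.inl rfl)
            rw [hmul2 _ _ y.2 r t (Or.inl rfl), hmul2 _ _ (hQ y y.2 k) r t (Or.inl rfl)] at this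
            simp only [conj_apply hD k _ _ _ (hd0 _), div_self (hd0 r), div_self (hd0 t), one_pow, one_mul,
              ← hae, ← hbe, ← hde, ← hρ] at this
            linear_combination this
          · have := hr' t r (Or.inr rfl)
            rw [hmul2 _ _ y.2 t r (Or.inr rfl), hmul2 _ _ (hQ y y.2 k) t r (Or.inr rfl)] at this
            simp only [conj_apply hD k _ _ _ (hd0 _), div_self (hd0 r), div_self (hd0 t), one_pow, one_mul,
              ← hae, ← hee, ← hde, show d t / d r = 1 / ρ by rw [hρ, one_div_div]] at this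
            linear_combination this) with hb | ha
      · exact hbe0 hb
      · exact hnoanti y y.2 ha.1 ha.2
    intro y hy
    exact hcen 2 Nat.prime_two hp2 Q hQ ⟨y, hy⟩ (hcenter ▸ Subgroup.mem_top _)
  -- the order of the two-part
  have hQ4 : Nat.card Q ≤ 4 := by
    let φ : Q → Fin 2 → Bool := fun y i => decide ((((y : K) : G3) : M3) i.castSucc i.castSucc = 1)
    have hφ : Function.Injective φ := by
      intro y y' h
      apply Subtype.ext; apply Subtype.ext; apply Units.ext
      have hy := hQC _ y.2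
      have hy' := hQC _ y'.2
      have e : ∀ i : Fin 2, (((y : K) : G3) : M3) i.castSucc i.castSucc = (((y' : K) : G3) : M3) i.castSucc i.castSucc := by
        intro i
        have hh := congrFun h i
        simp only [φ, decide_eq_decide] at hh
        rcases hsign _ hy i.castSucc with a | a <;> rcases hsign _ hy' i.castSucc with b | b
        · rw [a, b]
        · exact absurd (hh.1 a) (fun hb => h2 (by linear_combination hb.symm.trans b))
        · exact absurd (hh.2 b) (fun ha => h2 (by linear_combination ha.symm.trans a))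
        · rw [a, b]
      have d1 : ∀ w : K, w ∈ Q → (((w : G3) : M3) 0 0) * ((w : G3) : M3) 1 1 * ((w : G3) : M3) 2 2 = 1 := by
        intro w hw
        have hh := hdet _ w.2
        have hdg := hdiag _ (hQC w hw)
        rw [Matrix.det_fin_three, hdg 0 1 (by decide), hdg 0 2 (by decide), hdg 1 2 (by decide)] at hh
        linear_combination hh
      ext i j
      by_cases hij : i = j
      · subst hij
        have e0 := e 0
        have e1 := e 1
        simp at e0 e1
        fin_cases i
        · simpa using e0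
        · simpa using e1
        · show (((y : K) : G3) : M3) 2 2 = (((y' : K) : G3) : M3) 2 2
          have a := d1 _ y.2
          have b := d1 _ y'.2
          rw [e0, e1] at a
          exact mul_left_cancel₀ (fun h0 => one_ne_zero (show (1 : F) = 0 by
            rw [← a, h0, zero_mul])) (a.trans b.symm)
      · rw [hdiag _ hy i j hij, hdiag _ hy' i j hij]
    have := Nat.card_le_card_of_injective φ hφ
    exact this.trans_eq (by simp)
  -- the Sylow p-subgroup is normal, hence trivial
  obtain ⟨P⟩ : Nonempty (Sylow p K) := inferInstance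
  have hidx : P.index ≤ 4 := by
    refine le_trans (Nat.le_of_dvd Nat.card_pos ?_) hQ4
    have hnot := P.not_dvd_index
    have hdvd : P.index ∣ Nat.card K := Subgroup.index_dvd_card _
    refine Nat.Coprime.dvd_of_dvd_mul_right (?_ : Nat.Coprime (P : Subgroup K).index (Q : Subgroup K).index) ?_
    · rw [Nat.coprime_iff_gcd_eq_one]
      by_contra hg
      obtain ⟨q, hq, hqd⟩ := Nat.exists_prime_and_dvd hg
      have h1 := hqd.trans (Nat.gcd_dvd_left _ _)
      have h2' := hqd.trans (Nat.gcd_dvd_right _ _)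
      have hqp : q ≠ p := fun h => hnot (h ▸ h1)
      have hq2 : q ≠ 2 := fun h => Q.not_dvd_index (h ▸ h2')
      exact hodd q hq hqp hq2 (h1.trans hdvd)
    · rw [Subgroup.card_mul_index]; exact hdvd
  have hPn : (P : Subgroup K).Normal := by
    have h1 := card_sylow_modEq_one p K
    have h2' : Nat.card (Sylow p K) ≤ 4 :=
      le_trans (Nat.le_of_dvd (Nat.pos_of_ne_zero Subgroup.index_ne_zero_of_finite) (Sylow.card_dvd_index P)) hidx
    have h3 : Nat.card (Sylow p K) = 1 := by
      have := Nat.card_pos (α := Sylow p K)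
      rw [Nat.ModEq, Nat.mod_eq_of_lt (by omega), Nat.mod_eq_of_lt (by omega)] at h1
      exact h1
    rw [← Subgroup.normalizer_eq_top_iff, ← Subgroup.index_eq_one]
    exact (Sylow.card_eq_index_normalizer P).symm.trans h3
  have hPbot : (P : Subgroup K) = ⊥ := by
    let W : Submodule F (Fin 3 → F) :=
      { carrier := {w | ∀ k ∈ P, ((k : G3) : M3) *ᵥ w = w}
        add_mem' := fun {a b} ha hb k hk => by rw [Matrix.mulVec_add, ha k hk, hb k hk]
        zero_mem' := fun k _ => Matrix.mulVec_zero _
        smul_mem' := fun c a ha k hk => by rw [Matrix.mulVec_smul, ha k hk] }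
    let actP : MulAction P (Fin 3 → F) :=
      { smul := fun k w => (((k : K) : G3) : M3) *ᵥ w
        one_smul := fun w => Matrix.one_mulVec w
        mul_smul := fun a b w => (Matrix.mulVec_mulVec w _ _).symm }
    let _ := actP
    obtain ⟨w, hw, hw0⟩ := P.2.exists_fixed_point_of_prime_dvd_card_of_fixed_point (α := Fin 3 → F)
      (by rw [Nat.card_fun, Nat.card_eq_fintype_card, hF]; exact dvd_pow_self p (by simp))
      (a := 0) (fun k => Matrix.mulVec_zero _)
    have hwW : w ∈ W := fun k hk => hw ⟨k, hk⟩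
    have hstable : ∀ g : G3, (∀ k ∈ K, g * k * g⁻¹ ∈ K) → ∀ v ∈ W, (g : M3) *ᵥ v ∈ W := by
      intro g hg v hv k hk
      let cj : K →* K :=
        { toFun := fun x => ⟨_, hg x x.2⟩
          map_one' := Subtype.ext (by show g * 1 * g⁻¹ = 1; group)
          map_mul' := fun a b => Subtype.ext (by
            show g * ((a : G3) * b) * g⁻¹ = g * a * g⁻¹ * (g * b * g⁻¹); group) }
      have hcj : Function.Bijective cj := Finite.injective_iff_bijective.1 fun a b h =>
        Subtype.ext (mul_left_cancel (mul_right_cancel (congrArg Subtype.val h)))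
      have hchar : (P : Subgroup K).map cj = P := by
        have := Sylow.characteristic_of_normal P hPn
        exact Subgroup.characteristic_iff_map_eq.1 this (MulEquiv.ofBijective cj hcj)
      have hk2 : k ∈ (P : Subgroup K).map cj := hchar.symm ▸ hk
      obtain ⟨k', hk', rfl⟩ := hk2
      show ((g * (k' : G3) * g⁻¹ : G3) : M3) *ᵥ ((g : M3) *ᵥ v) = _
      rw [Matrix.mulVec_mulVec, ← Units.val_mul, inv_mul_cancel_right, Units.val_mul, ← Matrix.mulVec_mulVec,
        hv k' hk']
    obtain ⟨i, hi⟩ := Function.ne_iff.1 hw0.symm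
    -- a coordinate vector
    have hDv : ∀ v ∈ W, (fun j => d j * v j) ∈ W := fun v hv => by
      have := hstable D hDK v hv
      rwa [hD, show Matrix.diagonal d *ᵥ v = fun j => d j * v j from funext (Matrix.mulVec_diagonal _ _)] at this
    have hkill : ∀ l, ∀ v ∈ W, (fun j => (d j - d l) * v j) ∈ W := fun l v hv => by
      convert W.sub_mem (hDv v hv) (W.smul_mem (d l) hv) using 1
      funext j
      simp [sub_mul]
    have f3 : ∀ i : Fin 3, ∃ l m : Fin 3, l ≠ i ∧ m ≠ i ∧ ∀ j, j = i ∨ j = l ∨ j = m := by decide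
    obtain ⟨l, m, hlm⟩ := f3 i
    have hei : Pi.single i (1 : F) ∈ W := by
      have h := hkill l _ (hkill m w hwW)
      have hc : (d i - d l) * ((d i - d m) * w i) ≠ 0 :=
        mul_ne_zero (sub_ne_zero.2 (hinj.ne hlm.1.symm))
          (mul_ne_zero (sub_ne_zero.2 (hinj.ne hlm.2.1.symm)) hi)
      convert W.smul_mem ((d i - d l) * ((d i - d m) * w i))⁻¹ h using 1
      funext j
      by_cases hj : j = i
      · rw [hj]
        simp only [Pi.smul_apply, smul_eq_mul, Pi.single_eq_same]
        rw [inv_mul_cancel₀ hc]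
      · rcases (hlm.2.2 j).resolve_left hj with rfl | rfl <;> simp [Pi.single_eq_of_ne hj]
    have hall : ∀ j, Pi.single j (1 : F) ∈ W := by
      intro j
      have h := hstable E hEK _ hei
      obtain ⟨l, m, hlm⟩ := f3 j
      rw [Matrix.mulVec_single_one] at h
      have h' := hkill l _ (hkill m _ h)
      have hc : (d j - d l) * ((d j - d m) * (E : M3) j i) ≠ 0 :=
        mul_ne_zero (sub_ne_zero.2 (hinj.ne hlm.1.symm))
          (mul_ne_zero (sub_ne_zero.2 (hinj.ne hlm.2.1.symm)) (hE j i))
      convert W.smul_mem ((d j - d l) * ((d j - d m) * (E : M3) j i))⁻¹ h' using 1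
      funext x
      by_cases hx : x = j
      · rw [hx]
        simp only [Pi.smul_apply, smul_eq_mul, Pi.single_eq_same, Matrix.col_apply]
        rw [inv_mul_cancel₀ hc]
      · rcases (hlm.2.2 x).resolve_left hx with rfl | rfl <;> simp [Pi.single_eq_of_ne hx]
    rw [eq_bot_iff]
    intro k hk
    refine Subgroup.mem_bot.2 (Subtype.ext (Units.ext ?_))
    show ((k : G3) : M3) = 1
    ext a b
    have := congrFun (hall b k hk) a
    rw [Matrix.mulVec_single_one] at this
    simpa [Matrix.one_apply, Pi.single_apply, eq_comm] using this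
  have hKC : ∀ k : K, k ∈ C0 := by
    have hQtop : (Q : Subgroup K) = ⊤ := by
      apply Subgroup.eq_top_of_card_eq
      obtain ⟨m, hm⟩ := IsPGroup.iff_card.1 Q.2
      have hKp : ¬ p ∣ Nat.card K := by
        have := P.not_dvd_index
        rwa [← Subgroup.card_mul_index (P : Subgroup K), hPbot, Subgroup.card_bot, one_mul] at *
      have : Q.index = 1 := by
        by_contra h
        obtain ⟨q, hq, hqd⟩ := Nat.exists_prime_and_dvd h
        have hqK := hqd.trans (Subgroup.index_dvd_card _)
        exact hodd q hq (fun e => hKp (e ▸ hqK)) (fun e => Q.not_dvd_index (e ▸ hqd)) hqK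
      rw [← Subgroup.card_mul_index (Q : Subgroup K), this, mul_one]
    intro k
    exact hQC k (by show k ∈ (Q : Subgroup K); rw [hQtop]; trivial)
  rw [eq_bot_iff]
  intro k hk
  have hkd := hdiag ⟨k, hk⟩ (hKC _)
  have hkd' := hdiag ⟨_, hEK k hk⟩ (hKC _)
  have hconst : ∀ i, (k : M3) i i = (k : M3) 0 0 := by
    intro i
    have h : ((E * k * E⁻¹ : G3) : M3) * (E : M3) = (E : M3) * (k : M3) := by
      rw [← Units.val_mul, ← Units.val_mul, inv_mul_cancel_right]
    have e : ∀ l, ((E * k * E⁻¹ : G3) : M3) 0 0 * (E : M3) 0 l = (E : M3) 0 l * (k : M3) l l := by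
      intro l
      have := congrFun (congrFun h 0) l
      rwa [Matrix.mul_apply, Matrix.mul_apply,
        Finset.sum_eq_single (0 : Fin 3) (fun j _ hj => by rw [hkd' 0 j hj.symm, zero_mul]) (by simp),
        Finset.sum_eq_single l (fun j _ hj => by rw [hkd j l hj, mul_zero]) (by simp)] at this
    have a := e i
    have b := e 0
    rw [mul_comm _ ((E : M3) 0 i)] at a
    rw [mul_comm _ ((E : M3) 0 0)] at b
    exact (mul_left_cancel₀ (hE 0 i) a).symm.trans (mul_left_cancel₀ (hE 0 0) b)
  have hkm : (k : M3) = (k : M3) 0 0 • 1 := by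
    ext i j
    by_cases hij : i = j
    · subst hij; rw [Matrix.smul_apply, Matrix.one_apply_eq, smul_eq_mul, mul_one, hconst]
    · rw [hkd i j hij, Matrix.smul_apply, Matrix.one_apply_ne hij, smul_zero]
  have hd1 := hdet k hk
  rw [hkm, Matrix.det_smul, Matrix.det_one, mul_one, Fintype.card_fin] at hd1
  refine Subgroup.mem_bot.2 (Units.ext ?_)
  rw [hkm, Units.val_one]
  rcases hsign ⟨k, hk⟩ (hKC _) 0 with h | h <;> simp only at h
  · rw [h, one_smul]
  · rw [h] at hd1
    exact absurd (show (2 : F) = 0 by linear_combination -hd1) h2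

end Three

end Cfsg.Agent.H36.SLFiveHeis
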