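import Cfsg.Agent.H36.SLFiveHeis.Block
import Cfsg.Agent.H36.SLFiveHeis.Kernel
import Cfsg.Agent.H36.SLFiveHeis.Halves
import Mathlib.GroupTheory.SpecificGroups.Alternating

/-!
The centraliser of the involution in a proper overgroup of the normaliser of `5^(1+2)`.
-/

set_option autoImplicit false

namespace Cfsg.Agent.H36.SLFiveHeis

open Matrix
open Cfsg.Agent.H1.HeisThree (sc coe_sc sc_mul sc_one sc_inj sc_comm charP_of_card exists_natCast exists_proj
  small_of_not_dvd exists_low_of_dvd exists_order_p_of_dvd)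

section Weight

variable {F : Type*} [Field F] [Fintype F] {p : ℕ}

local notation "M3" => Matrix (Fin 3) (Fin 3) F
local notation "G3" => GL (Fin 3) F

/-- A unipotent element moved to a power by the diagonal element respects the first coordinate. -/
theorem weight_block (hp : p.Prime) (hF : Fintype.card F = p) {ω : F} (hω : IsPrimitiveRoot ω 5) {D T : G3}
    (hD : (D : M3) = Matrix.diagonal ![1, ω, ω ^ 4]) (hT : T ^ p = 1) {m : ℕ} (hm : (m : F) = ω ^ 2)
    (h : D * T * D⁻¹ = T ^ m) :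
    (T : M3) 0 1 = 0 ∧ (T : M3) 0 2 = 0 ∧ (T : M3) 1 0 = 0 ∧ (T : M3) 2 0 = 0 := by
  have := Fact.mk hp
  have := charP_of_card hp hF
  set N := (T : M3) - 1 with hN
  have hTN : (T : M3) = 1 + N := by rw [hN, add_sub_cancel]
  have hNnil : IsNilpotent N := ⟨p, by
    rw [hN, sub_pow_char_of_commute _ (Commute.one_right _), ← Units.val_pow_eq_pow_val, hT, one_pow,
      Units.val_one, sub_self]⟩
  have hN3 : N * N * N = 0 := by
    have h3 : N ^ 3 = 0 := by
      have hc := Matrix.isNilpotent_charpoly_sub_pow_of_isNilpotent hNnil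
      rw [Fintype.card_fin] at hc
      have hc' := sub_eq_zero.1 hc.eq_zero
      have := Matrix.aeval_self_charpoly N
      rwa [hc', map_pow, Polynomial.aeval_X] at this
    rwa [pow_succ, pow_two] at h3
  have hexp : ∀ n : ℕ, ∃ c : F, (T : M3) ^ n = 1 + (n : F) • N + c • (N * N) := by
    intro n
    induction n with
    | zero => exact ⟨0, by simp⟩
    | succ n ih =>
      obtain ⟨c, hc⟩ := ih
      refine ⟨c + n, ?_⟩
      rw [pow_succ, hc, hTN]
      simp only [Matrix.mul_add, Matrix.add_mul, Matrix.smul_mul, mul_one, one_mul, hN3, smul_zero, add_zero,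
        Nat.cast_succ, add_smul, one_smul]
      abel
  obtain ⟨c, hc⟩ := hexp m
  have h1 : (D : M3) * N = ((ω ^ 2) • N + c • (N * N)) * (D : M3) := by
    have h' : (D : M3) * (T : M3) = (T : M3) ^ m * (D : M3) := by
      rw [← Units.val_pow_eq_pow_val, ← Units.val_mul, ← Units.val_mul, ← h, inv_mul_cancel_right]
    rw [hc, hm, hTN, Matrix.mul_add, mul_one, add_assoc, Matrix.add_mul 1, one_mul] at h'
    exact add_left_cancel h'
  have hN4 : N * (N * N) = 0 := by rw [← mul_assoc, hN3]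
  have h2 : (D : M3) * (N * N) = (ω ^ 4 • (N * N)) * (D : M3) := by
    rw [← mul_assoc, h1, mul_assoc, h1, ← mul_assoc]
    congr 1
    simp only [Matrix.add_mul, Matrix.mul_add, Matrix.smul_mul, Matrix.mul_smul, smul_smul, smul_add, hN3, hN4,
      mul_assoc, mul_zero, smul_zero, add_zero]
    rw [← pow_add]
  rw [hD] at h1 h2
  have e1 : ∀ i j, (![1, ω, ω ^ 4] i) * N i j = (ω ^ 2 * N i j + c * (N * N) i j) * ![1, ω, ω ^ 4] j := fun i j => by
    have := congrFun (congrFun h1 i) j
    rw [Matrix.diagonal_mul, Matrix.mul_diagonal, Matrix.add_apply, Matrix.smul_apply, Matrix.smul_apply,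
      smul_eq_mul, smul_eq_mul] at this
    exact this
  have e2 : ∀ i j, (![1, ω, ω ^ 4] i) * (N * N) i j = (ω ^ 4 * (N * N) i j) * ![1, ω, ω ^ 4] j := fun i j => by
    have := congrFun (congrFun h2 i) j
    rw [Matrix.diagonal_mul, Matrix.mul_diagonal, Matrix.smul_apply, smul_eq_mul] at this
    exact this
  have pw : ∀ a b : ℕ, a < 5 → b < 5 → a ≠ b → ω ^ a - ω ^ b ≠ 0 := fun a b ha hb hab e =>
    hab (hω.pow_inj ha hb (sub_eq_zero.1 e))
  have w5 : ω ^ 5 = 1 := hω.pow_eq_one
  -- diagonal entries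
  have q00 : (N * N) 0 0 = 0 := (mul_eq_zero.1 (show (ω ^ 0 - ω ^ 4) * (N * N) 0 0 = 0 by
    have := e2 0 0; simp [-mul_eq_mul_left_iff, -mul_eq_mul_right_iff] at this; linear_combination this)).resolve_left (pw 0 4 (by norm_num) (by norm_num) (by norm_num))
  have n00 : N 0 0 = 0 := (mul_eq_zero.1 (show (ω ^ 0 - ω ^ 2) * N 0 0 = 0 by
    have := e1 0 0; rw [q00] at this; simp [-mul_eq_mul_left_iff, -mul_eq_mul_right_iff] at this; linear_combination this)).resolve_left (pw 0 2 (by norm_num) (by norm_num) (by norm_num))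
  have q11 : (N * N) 1 1 = 0 := (mul_eq_zero.1 (show (ω ^ 0 - ω ^ 4) * (N * N) 1 1 * ω = 0 by
    have := e2 1 1; simp [-mul_eq_mul_left_iff, -mul_eq_mul_right_iff] at this; linear_combination this) |>.resolve_right (hω.ne_zero (by norm_num)) |> mul_eq_zero.1).resolve_left
      (pw 0 4 (by norm_num) (by norm_num) (by norm_num))
  have n11 : N 1 1 = 0 := (mul_eq_zero.1 (show (ω ^ 0 - ω ^ 2) * N 1 1 * ω = 0 by
    have := e1 1 1; rw [q11] at this; simp [-mul_eq_mul_left_iff, -mul_eq_mul_right_iff] at this; linear_combination this) |>.resolve_right (hω.ne_zero (by norm_num)) |> mul_eq_zero.1).resolve_left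
      (pw 0 2 (by norm_num) (by norm_num) (by norm_num))
  have q02 : (N * N) 0 2 = 0 := (mul_eq_zero.1 (show (ω ^ 0 - ω ^ 3) * (N * N) 0 2 = 0 by
    have := e2 0 2; simp [-mul_eq_mul_left_iff, -mul_eq_mul_right_iff] at this; linear_combination this + (N * N) 0 2 * ω ^ 3 * w5)).resolve_left (pw 0 3 (by norm_num) (by norm_num) (by norm_num))
  have n02 : N 0 2 = 0 := (mul_eq_zero.1 (show (ω ^ 0 - ω ^ 1) * N 0 2 = 0 by
    have := e1 0 2; rw [q02] at this; simp [-mul_eq_mul_left_iff, -mul_eq_mul_right_iff] at this; linear_combination this + N 0 2 * ω * w5)).resolve_left (pw 0 1 (by norm_num) (by norm_num) (by norm_num))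
  have q10 : (N * N) 1 0 = 0 := (mul_eq_zero.1 (show (ω ^ 1 - ω ^ 4) * (N * N) 1 0 = 0 by
    have := e2 1 0; simp [-mul_eq_mul_left_iff, -mul_eq_mul_right_iff] at this; linear_combination this)).resolve_left (pw 1 4 (by norm_num) (by norm_num) (by norm_num))
  have n10 : N 1 0 = 0 := (mul_eq_zero.1 (show (ω ^ 1 - ω ^ 2) * N 1 0 = 0 by
    have := e1 1 0; rw [q10] at this; simp [-mul_eq_mul_left_iff, -mul_eq_mul_right_iff] at this; linear_combination this)).resolve_left (pw 1 2 (by norm_num) (by norm_num) (by norm_num))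
  have q21 : (N * N) 2 1 = 0 := (mul_eq_zero.1 (show (ω ^ 4 - ω ^ 0) * (N * N) 2 1 = 0 by
    have := e2 2 1; simp [-mul_eq_mul_left_iff, -mul_eq_mul_right_iff] at this; linear_combination this + (N * N) 2 1 * w5)).resolve_left (pw 4 0 (by norm_num) (by norm_num) (by norm_num))
  have n21 : N 2 1 = 0 := (mul_eq_zero.1 (show (ω ^ 4 - ω ^ 3) * N 2 1 = 0 by
    have := e1 2 1; rw [q21] at this; simp [-mul_eq_mul_left_iff, -mul_eq_mul_right_iff] at this; linear_combination this)).resolve_left (pw 4 3 (by norm_num) (by norm_num) (by norm_num))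
  have q01 : (N * N) 0 1 = 0 := by
    rw [Matrix.mul_apply, Fin.sum_univ_three, n00, n11, n02, n21]; ring
  have n01 : N 0 1 = 0 := (mul_eq_zero.1 (show (ω ^ 0 - ω ^ 3) * N 0 1 = 0 by
    have := e1 0 1; rw [q01] at this; simp [-mul_eq_mul_left_iff, -mul_eq_mul_right_iff] at this; linear_combination this)).resolve_left (pw 0 3 (by norm_num) (by norm_num) (by norm_num))
  have n22 : N 2 2 = 0 := by
    have := (Matrix.isNilpotent_trace_of_isNilpotent hNnil).eq_zero
    rw [Matrix.trace_fin_three, n00, n11] at this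
    linear_combination this
  have q20 : (N * N) 2 0 = 0 := by
    rw [Matrix.mul_apply, Fin.sum_univ_three, n00, n22, n21, n10]; ring
  have n20 : N 2 0 = 0 := (mul_eq_zero.1 (show (ω ^ 4 - ω ^ 2) * N 2 0 = 0 by
    have := e1 2 0; rw [q20] at this; simp [-mul_eq_mul_left_iff, -mul_eq_mul_right_iff] at this; linear_combination this)).resolve_left (pw 4 2 (by norm_num) (by norm_num) (by norm_num))
  rw [hTN]
  simp [n01, n02, n10, n20]

end Weight

section Alt

set_option synthInstance.maxSize 4000 in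
set_option synthInstance.maxHeartbeats 400000 in
theorem alt_five_conj : ∀ a : alternatingGroup (Fin 5), a * a = 1 → a ≠ 1 →
    ∀ b : alternatingGroup (Fin 5), b * b = 1 → b ≠ 1 → ∃ h, h * b * h⁻¹ = a := by
  decide +kernel

end Alt

namespace Penta

variable {F : Type*} [Field F] {p : ℕ} (C : Penta F)

local notation "T5" => ZMod 5
local notation "M5" => Matrix (ZMod 5) (ZMod 5) F
local notation "G5" => GL (ZMod 5) F
local notation "M3" => Matrix (Fin 3) (Fin 3) F
local notation "G3" => GL (Fin 3) F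
local notation "M2" => Matrix (Fin 2) (Fin 2) F
local notation "G2" => GL (Fin 2) F

theorem u_flip : C.u * C.flip = C.flip * C.u := by
  apply Units.ext
  ext i j
  simp only [Units.val_mul, coe_u, Matrix.mul_diagonal, Matrix.diagonal_mul, coe_flip]
  by_cases h : i = -j
  · subst h; simp
  · simp [h]

theorem u'_flip : C.u' * C.flip = C.flip * C.u' := by
  apply Units.ext
  ext i j
  rw [Units.val_mul, Units.val_mul, Matrix.mul_apply, Matrix.mul_apply,
    Finset.sum_eq_single (-j) (fun q _ hq => ?_) (by simp),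
    Finset.sum_eq_single (-i) (fun q _ hq => ?_) (by simp)]
  · simp only [coe_flip, coe_u', neg_neg, if_true, one_mul, mul_one]
    congr 2
    ring
  · have : i ≠ -q := fun e => hq (by rw [e, neg_neg])
    simp [coe_flip, this]
  · simp [coe_flip, hq]

theorem f_flip : C.f * C.flip = C.flip * C.f := by rw [← C.f_mul_f, mul_assoc]

variable {C} in
theorem mem_Hf {M : Subgroup G5} {g : G5} (h : g * C.flip = C.flip * g) (hg : g ∈ M) : g ∈ C.Hf M :=
  ⟨Subgroup.mem_centralizer_singleton_iff.2 h, hg⟩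

section Elts

variable {M : Subgroup (GL (ZMod 5) F)} (hM : C.ContainsN M)

/-- `u` in the centraliser. -/
def su : C.Hf M := ⟨C.u, mem_Hf C.u_flip hM.u⟩

/-- `u'` in the centraliser. -/
def su' : C.Hf M := ⟨C.u', mem_Hf C.u'_flip hM.u'⟩

/-- `f` in the centraliser. -/
def sf : C.Hf M := ⟨C.f, mem_Hf C.f_flip hM.f⟩

/-- `flip` in the centraliser. -/
def sflip : C.Hf M := ⟨C.flip, mem_Hf rfl hM.flip⟩

theorem phO_u : (C.phO M (C.su hM) : M2) = !![C.ω, 0; 0, C.ω ^ 4] := by
  rw [coe_phO]
  ext i j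
  fin_cases i <;> fin_cases j <;>
    simp (config := {decide := true}) [oMat, su, coe_u, C.ch_one, C.ch_four, show (2 : T5) * 2 = 4 from rfl]

theorem phE_u : (C.phE M (C.su hM) : M3) = Matrix.diagonal ![1, C.ω, C.ω ^ 4] := by
  rw [coe_phE]
  ext i j
  fin_cases i <;> fin_cases j <;>
    simp (config := {decide := true}) [eMat, su, coe_u, C.ch_zero, C.ch_one, C.ch_four,
      show (2 : T5) * 2 = 4 from rfl]

theorem phO_u' : (C.phO M (C.su' hM) : M2) =
    !![C.η⁻¹ * (1 - C.ω ^ 4), C.η⁻¹ * (C.ω - C.ω ^ 4); C.η⁻¹ * (C.ω - C.ω ^ 4), C.η⁻¹ * (1 - C.ω)] := by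
  rw [coe_phO]
  ext i j
  fin_cases i <;> fin_cases j <;>
    simp [oMat, su', coe_u', C.ch_zero, C.ch_one, C.ch_four, mul_sub,
      show ((1 : T5) - 4) * (1 - 4) = 4 from rfl, show ((1 : T5) - 2) * (1 - 2) = 1 from rfl,
      show ((1 : T5) - 3) * (1 - 3) = 4 from rfl, show ((2 : T5) - 1) * (2 - 1) = 1 from rfl,
      show ((2 : T5) - 4) * (2 - 4) = 4 from rfl, show ((2 : T5) - 3) * (2 - 3) = 1 from rfl]

theorem phO_f : (C.phO M (C.sf hM) : M2) = !![0, 1; -1, 0] := by
  rw [coe_phO]
  ext i j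
  fin_cases i <;> fin_cases j <;> simp (config := {decide := true}) [oMat, sf, coe_f]

theorem phE_f : (C.phE M (C.sf hM) : M3) = !![-1, 0, 0; 0, 0, -1; 0, -1, 0] := by
  rw [coe_phE]
  ext i j
  fin_cases i <;> fin_cases j <;> simp (config := {decide := true}) [eMat, sf, coe_f]

theorem ch_add_ne (h2 : (2 : F) ≠ 0) (a b : T5) : C.ch a + C.ch b ≠ 0 := by
  intro h
  have h' : C.ch (a + a) = C.ch (b + b) := by rw [C.ch_add, C.ch_add]; linear_combination (C.ch a - C.ch b) * h
  have e : a = b := (by decide : ∀ a b : T5, a + a = b + b → a = b) a b (C.ch_inj h')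
  subst e
  exact mul_ne_zero h2 (C.ch_ne_zero a) (by linear_combination h)

theorem phE_u'_ne (h2 : (2 : F) ≠ 0) (i j : Fin 3) : (C.phE M (C.su' hM) : M3) i j ≠ 0 := by
  have hn := inv_ne_zero C.η_ne_zero
  have s := fun a b : T5 => mul_ne_zero hn (C.ch_add_ne h2 a b)
  have o := fun a : T5 => mul_ne_zero hn (C.ch_ne_zero a)
  rw [coe_phE]
  fin_cases i <;> fin_cases j <;> simp [eMat, su', coe_u', ← mul_add] <;>
    first | exact ⟨C.η_ne_zero, C.ch_ne_zero _⟩ | exact ⟨C.η_ne_zero, C.ch_add_ne h2 _ _⟩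

end Elts

section Hyp

variable [Fintype F] {M : Subgroup (GL (ZMod 5) F)} (hM : C.ContainsN M) (hp : p.Prime) (hF : Fintype.card F = p) (hp7 : 7 ≤ p)
  (hno : ¬ ∀ g : GL (ZMod 5) F, (g : Matrix (ZMod 5) (ZMod 5) F).det = 1 → g ∈ M)
include hp hF hp7 hno hM

theorem two_ne : (2 : F) ≠ 0 := by
  have := Fact.mk hp
  have := charP_of_card hp hF
  exact Cfsg.Agent.H1.HeisThree.two_ne_zero_of (by omega) hp

theorem monomial {g : C.Hf M} (hu : (g : G5) * C.u = C.u * (g : G5)) {k : T5} (hk : k ≠ 0) :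
    ((g : G5) : M5) k k = 0 ∨ ((g : G5) : M5) k (-k) = 0 := by
  by_contra h
  rw [not_or] at h
  exact hno (C.sl_mem_of_block hp hF (by omega) hM (C.mem_M g) hu (C.Hf_comm g) hk h.1 h.2)

theorem commute_u_of {g : C.Hf M} (hE : Commute (C.phE M g) (C.phE M (C.su hM)))
    (hO : Commute (C.phO M g) (C.phO M (C.su hM))) : (g : G5) * C.u = C.u * (g : G5) :=
  congrArg Subtype.val (C.ext_Hf (C.two_ne hM hp hF hp7 hno) (g := g * C.su hM) (h := C.su hM * g)
    (by rw [map_mul, map_mul]; exact hE.eq) (by rw [map_mul, map_mul]; exact hO.eq))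

set_option maxHeartbeats 1000000 in
theorem phO_injective : Function.Injective (C.phO M) := by
  rw [← MonoidHom.ker_eq_bot_iff]
  have h2 := C.two_ne hM hp hF hp7 hno
  have hbot : (C.phO M).ker.map (C.phE M) = ⊥ := by
    refine kernel_trivial hp hF hp7 ?_ (D := C.phE M (C.su hM)) (E := C.phE M (C.su' hM))
      (d := ![1, C.ω, C.ω ^ 4]) (C.phE_u hM) ?_ ?_ (C.phE_u'_ne hM h2) ?_ ?_ ?_
    · rintro _ ⟨g, hg, rfl⟩
      have h := C.det_halves h2 g
      rw [← coe_phO, MonoidHom.mem_ker.1 hg, Units.val_one, Matrix.det_one, mul_one, hM.det _ (C.mem_M g)] at h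
      exact h.symm
    · have pw : ∀ a b : ℕ, a < 5 → b < 5 → a ≠ b → C.ω ^ a ≠ C.ω ^ b := fun a b ha hb hab e =>
        hab (C.prim.pow_inj ha hb e)
      have h01 := pw 0 1 (by norm_num) (by norm_num) (by norm_num)
      have h04 := pw 0 4 (by norm_num) (by norm_num) (by norm_num)
      have h14 := pw 1 4 (by norm_num) (by norm_num) (by norm_num)
      rw [pow_zero] at h01 h04
      rw [pow_one] at h01 h14
      intro i j h
      fin_cases i <;> fin_cases j <;> simp_all
    · intro i
      fin_cases i <;> simp [C.pow_five, ← pow_mul]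
      rw [show 20 = 5 * 4 by norm_num, pow_mul, C.pow_five, one_pow]
    · rintro _ ⟨g, hg, rfl⟩
      exact ⟨C.su hM * g * (C.su hM)⁻¹, (MonoidHom.normal_ker _).conj_mem _ hg _, by simp⟩
    · rintro _ ⟨g, hg, rfl⟩
      exact ⟨C.su' hM * g * (C.su' hM)⁻¹, (MonoidHom.normal_ker _).conj_mem _ hg _, by simp⟩
    · rintro _ ⟨g, hg, rfl⟩ hc
      have hO : C.phO M g = 1 := hg
      have hgu := C.commute_u_of hM hp hF hp7 hno (g := g) hc.symm (by rw [hO]; exact Commute.one_left _)
      have hz : ∀ i j : T5, i * i ≠ j * j → ((g : G5) : M5) i j = 0 := C.eq_zero_of_comm hgu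
      have o := congrArg (fun x : G2 => (x : M2)) hO
      rw [coe_phO, Units.val_one] at o
      have o0 := congrFun (congrFun o 0) 0
      have o1 := congrFun (congrFun o 1) 1
      simp [oMat] at o0 o1
      have m1 := C.monomial hM hp hF hp7 hno hgu (k := 1) (by decide)
      have m2 := C.monomial hM hp hF hp7 hno hgu (k := 2) (by decide)
      rw [show -(1 : T5) = 4 from rfl] at m1
      rw [show -(2 : T5) = 3 from rfl] at m2
      have d := C.det_halves h2 g
      rw [hM.det _ (C.mem_M g), o, Matrix.det_one, mul_one] at d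
      have hEm : eMat ((g : G5) : M5) = Matrix.diagonal ![((g : G5) : M5) 0 0,
          ((g : G5) : M5) 1 1 + ((g : G5) : M5) 1 4, ((g : G5) : M5) 2 2 + ((g : G5) : M5) 2 3] := by
        ext i j
        fin_cases i <;> fin_cases j <;> simp [eMat] <;>
          simp only [hz 0 1 (by decide), hz 0 4 (by decide), hz 0 2 (by decide), hz 0 3 (by decide),
            hz 1 0 (by decide), hz 2 0 (by decide), hz 1 2 (by decide), hz 1 3 (by decide), hz 2 1 (by decide),
            hz 2 4 (by decide), add_zero]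
      rw [hEm, Matrix.det_diagonal, Fin.prod_univ_three] at d
      simp at d
      set a := ((g : G5) : M5) 0 0
      set x1 := ((g : G5) : M5) 1 1 + ((g : G5) : M5) 1 4 with hx1
      set x2 := ((g : G5) : M5) 2 2 + ((g : G5) : M5) 2 3 with hx2
      have s1 : x1 * x1 = 1 := by
        rcases m1 with h | h <;> rw [hx1, h] <;> rw [h] at o0
        · linear_combination (1 - ((g : G5) : M5) 1 4) * o0
        · linear_combination (((g : G5) : M5) 1 1 + 1) * o0
      have s2 : x2 * x2 = 1 := by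
        rcases m2 with h | h <;> rw [hx2, h] <;> rw [h] at o1
        · linear_combination (1 - ((g : G5) : M5) 2 3) * o1
        · linear_combination (((g : G5) : M5) 2 2 + 1) * o1
      have s0 : a * a = 1 := by linear_combination -(a * x1 * x2 + 1) * d - a * a * x2 * x2 * s1 - a * a * s2
      apply Units.ext
      rw [Units.val_mul, coe_phE, hEm, Matrix.diagonal_mul_diagonal, Units.val_one, ← Matrix.diagonal_one]
      congr 1
      funext i
      fin_cases i <;> simp [s0, s1, s2]
  rw [eq_bot_iff]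
  intro g hg
  have hE : C.phE M g = 1 := by
    have : C.phE M g ∈ (C.phO M).ker.map (C.phE M) := ⟨g, hg, rfl⟩
    rw [hbot] at this
    exact Subgroup.mem_bot.1 this
  exact Subgroup.mem_bot.2 (C.ext_Hf h2 (by rw [hE, map_one]) (by rw [MonoidHom.mem_ker.1 hg, map_one]))

set_option maxHeartbeats 1000000 in
theorem of_scalar {c : C.Hf M} {μ : F} (h : (C.phO M c : M2) = μ • 1) :
    ∃ z : Fˣ, (z : F) ^ 5 = 1 ∧ ((c : G5) = sc z ∨ (c : G5) = sc z * C.flip) := by
  have h2 := C.two_ne hM hp hF hp7 hno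
  have inj := C.phO_injective hM hp hF hp7 hno
  have hcen : ∀ g : C.Hf M, c * g = g * c := fun g => inj (Units.ext (by
    rw [map_mul, map_mul, Units.val_mul, Units.val_mul, h, Matrix.smul_mul, one_mul, Matrix.mul_smul, mul_one]))
  have hcu : (c : G5) * C.u = C.u * (c : G5) := congrArg Subtype.val (hcen (C.su hM))
  have hz := C.eq_zero_of_comm hcu
  rw [coe_phO] at h
  have o0 := congrFun (congrFun h 0) 0
  have o1 := congrFun (congrFun h 1) 1
  simp [oMat] at o0 o1
  set E := (C.phE M c : M3) with hEdef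
  have hEoff : E 0 1 = 0 ∧ E 0 2 = 0 := by
    rw [hEdef, coe_phE]
    exact ⟨by simp [eMat, hz 0 1 (by decide), hz 0 4 (by decide)],
      by simp [eMat, hz 0 2 (by decide), hz 0 3 (by decide)]⟩
  have hEd : E 1 1 = E 0 0 ∧ E 2 2 = E 0 0 := by
    have hc := congrArg (fun x : G3 => (x : M3)) (congrArg (C.phE M) (hcen (C.su' hM)))
    simp only [map_mul, Units.val_mul] at hc
    have offdiag : ∀ i j, i ≠ j → E i j = 0 := by
      intro i j hij
      rw [hEdef, coe_phE]
      fin_cases i <;> fin_cases j <;> first | exact absurd rfl hij |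
        simp [eMat, hz 0 1 (by decide), hz 0 4 (by decide), hz 0 2 (by decide), hz 0 3 (by decide),
          hz 1 0 (by decide), hz 2 0 (by decide), hz 1 2 (by decide), hz 1 3 (by decide), hz 2 1 (by decide),
          hz 2 4 (by decide)]
    have e : ∀ i, E i i = E 0 0 := by
      intro i
      have := congrFun (congrFun hc 0) i
      rw [← hEdef, Matrix.mul_apply, Matrix.mul_apply,
        Finset.sum_eq_single (0 : Fin 3) (fun j _ hj => by rw [offdiag 0 j hj.symm, zero_mul]) (by simp),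
        Finset.sum_eq_single i (fun j _ hj => by rw [offdiag j i hj, mul_zero]) (by simp), mul_comm] at this
      exact (mul_left_cancel₀ (C.phE_u'_ne hM h2 0 i) this).symm
    exact ⟨e 1, e 2⟩
  set a := ((c : G5) : M5) 0 0 with ha
  have ea : E 0 0 = a := by rw [hEdef, coe_phE]; simp [eMat, ha]
  have e1 : ((c : G5) : M5) 1 1 + ((c : G5) : M5) 1 4 = a := by
    rw [← ea, ← hEd.1, hEdef, coe_phE]; simp [eMat]
  have e2 : ((c : G5) : M5) 2 2 + ((c : G5) : M5) 2 3 = a := by
    rw [← ea, ← hEd.2, hEdef, coe_phE]; simp [eMat]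
  have hEm : eMat ((c : G5) : M5) = a • 1 := by
    ext i j
    fin_cases i <;> fin_cases j <;> simp [eMat, e1, e2, ← ha] <;>
      simp only [hz 0 1 (by decide), hz 0 4 (by decide), hz 0 2 (by decide), hz 0 3 (by decide),
        hz 1 0 (by decide), hz 2 0 (by decide), hz 1 2 (by decide), hz 1 3 (by decide), hz 2 1 (by decide),
        hz 2 4 (by decide), add_zero]
  have d := C.det_halves h2 c
  rw [hM.det _ (C.mem_M c), hEm, h, Matrix.det_smul, Matrix.det_smul, Matrix.det_one, Matrix.det_one, mul_one,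
    mul_one, Fintype.card_fin, Fintype.card_fin] at d
  have ha0 : a ≠ 0 := fun h0 => by simp [h0] at d
  have hm := C.monomial hM hp hF hp7 hno hcu (k := 1) (by decide)
  rw [show -(1 : T5) = 4 from rfl] at hm
  have hsq : μ = a ∨ μ = -a := by
    rcases hm with h0 | h0 <;> rw [h0] at e1 o0
    · exact Or.inr (by linear_combination -o0 - e1)
    · exact Or.inl (by linear_combination e1 - o0)
  refine ⟨Units.mk0 a ha0, ?_, ?_⟩
  · rcases hsq with rfl | rfl <;> rw [Units.val_mk0] <;> linear_combination -d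
  have key : ∀ g : G5, g * C.flip = C.flip * g → eMat (g : M5) = a • 1 → oMat (g : M5) = μ • 1 → (c : G5) = g := by
    intro g hg hge hgo
    let gm : C.Hf ⊤ := ⟨g, mem_Hf hg (Subgroup.mem_top g)⟩
    let cm : C.Hf ⊤ := ⟨(c : G5), mem_Hf (C.Hf_comm c) (Subgroup.mem_top _)⟩
    exact congrArg Subtype.val (C.ext_Hf h2 (g := cm) (h := gm)
      (Units.ext (hEm.trans hge.symm)) (Units.ext (h.trans hgo.symm)))
  rcases hsq with rfl | rfl
  · left
    refine key _ (sc_comm _ _) ?_ ?_
    · rw [coe_sc]; ext i j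
      fin_cases i <;> fin_cases j <;> simp (config := {decide := true}) [eMat, Matrix.one_apply]
    · rw [coe_sc]; ext i j
      fin_cases i <;> fin_cases j <;> simp (config := {decide := true}) [oMat, Matrix.one_apply]
  · right
    refine key _ (by rw [mul_assoc, ← mul_assoc C.flip, ← sc_comm, mul_assoc]) ?_ ?_
    · rw [Units.val_mul, coe_sc, Matrix.smul_mul, one_mul]; ext i j
      fin_cases i <;> fin_cases j <;> simp (config := {decide := true}) [eMat, coe_flip, Matrix.one_apply]
    · rw [Units.val_mul, coe_sc, Matrix.smul_mul, one_mul]; ext i j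
      fin_cases i <;> fin_cases j <;> simp (config := {decide := true}) [oMat, coe_flip, Matrix.one_apply]

set_option maxHeartbeats 1000000 in
theorem not_dvd_range [Fact p.Prime] (ψ : G2 →* Matrix.ProjectiveSpecialLinearGroup (Fin 2) (GaloisField p 2))
    (hψ : ∀ g, ψ g = 1 ↔ ∃ c : F, (g : M2) = c • 1) : ¬ p ∣ Nat.card (ψ.comp (C.phO M)).range := by
  intro hdvd
  have := Fact.mk hp
  have := charP_of_card hp hF
  have h2 := C.two_ne hM hp hF hp7 hno
  have inj := C.phO_injective hM hp hF hp7 hno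
  obtain ⟨e, hep, he1⟩ := exists_order_p_of_dvd (ψ.comp (C.phO M)) hp hdvd
  have hne14 : C.ω ≠ C.ω ^ 4 := fun h => by
    have := C.prim.pow_inj (i := 1) (j := 4) (by norm_num) (by norm_num) (by rw [pow_one]; exact h)
    omega
  have hη := inv_ne_zero C.η_ne_zero
  obtain ⟨t, ht, y, hyr, hy⟩ := exists_low_of_dvd (G := (C.phO M).range) (D := C.phO M (C.su hM))
    (S := C.phO M (C.su' hM)) (a := C.ω) (b := C.ω ^ 4) hp hF ⟨_, rfl⟩ ⟨_, rfl⟩ (C.phO_u hM) hne14
    (by rw [C.phO_u' hM]; simpa using ⟨C.η_ne_zero, sub_ne_zero.2 hne14⟩)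
    (by rw [C.phO_u' hM]; simpa using ⟨C.η_ne_zero, sub_ne_zero.2 hne14⟩)
    (g := C.phO M e) ⟨e, rfl⟩ (by rw [← map_pow]; exact (hψ _).1 hep) (fun h => he1 ((hψ _).2 h))
  have hlow := low_all hp hF ht hyr hy
  have hup : ∀ s : F, ∃ z ∈ (C.phO M).range, (z : M2) = !![1, s; 0, 1] := by
    intro s
    obtain ⟨z, hz, hzm⟩ := hlow (-s)
    refine ⟨C.phO M (C.sf hM) * z * (C.phO M (C.sf hM))⁻¹,
      mul_mem (mul_mem ⟨_, rfl⟩ hz) (inv_mem ⟨_, rfl⟩), ?_⟩
    have hi : (((C.phO M (C.sf hM))⁻¹ : G2) : M2) = !![0, -1; 1, 0] := by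
      apply Units.inv_eq_of_mul_eq_one_left
      rw [C.phO_f hM]
      ext i j
      fin_cases i <;> fin_cases j <;> simp [Matrix.mul_apply, Fin.sum_univ_two]
    rw [Units.val_mul, Units.val_mul, C.phO_f hM, hi, hzm]
    ext i j
    fin_cases i <;> fin_cases j <;> simp [Matrix.mul_apply, Fin.sum_univ_two]
  -- the elements respecting the first coordinate
  let z3 : G3 := Cfsg.Agent.Linear.diagGL ![-1, 1, 1]
  let P : Subgroup (C.Hf M) := (Subgroup.centralizer ({z3} : Set G3)).comap (C.phE M)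
  have hz3 : (z3 : M3) = Matrix.diagonal ![-1, 1, 1] := by
    rw [Cfsg.Agent.Linear.diagGL_coe]
    congr 1
    funext i
    fin_cases i <;> simp
  have hP : ∀ {g : C.Hf M}, (C.phE M g : M3) 0 1 = 0 → (C.phE M g : M3) 0 2 = 0 → (C.phE M g : M3) 1 0 = 0 →
      (C.phE M g : M3) 2 0 = 0 → g ∈ P := by
    intro g a b c d
    rw [Subgroup.mem_comap, Subgroup.mem_centralizer_singleton_iff]
    apply Units.ext
    rw [Units.val_mul, Units.val_mul, hz3]
    ext i j
    rw [Matrix.diagonal_mul, Matrix.mul_diagonal]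
    fin_cases i <;> fin_cases j <;> simp [a, b, c, d]
  have hupP : ∀ s : F, ∃ g ∈ P, (C.phO M g : M2) = !![1, s; 0, 1] := by
    intro s
    obtain ⟨_, ⟨g, rfl⟩, hg⟩ := hup s
    refine ⟨g, ?_, hg⟩
    have hpow : ∀ n : ℕ, ((C.phO M g ^ n : G2) : M2) = !![1, n * s; 0, 1] := by
      intro n
      induction n with
      | zero => ext i j; fin_cases i <;> fin_cases j <;> simp
      | succ n ih =>
        rw [pow_succ, Units.val_mul, ih, hg]
        ext i j
        fin_cases i <;> fin_cases j <;> simp [Matrix.mul_apply, Fin.sum_univ_two]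
        ring
    obtain ⟨m, hm⟩ := exists_natCast hp hF (C.ω ^ 2)
    have h1 : g ^ p = 1 := inj (Units.ext (by
      rw [map_pow, hpow, CharP.cast_eq_zero F p, zero_mul, map_one, Units.val_one, Matrix.one_fin_two]))
    have h3 : C.su hM * g * (C.su hM)⁻¹ = g ^ m := by
      rw [mul_inv_eq_iff_eq_mul]
      refine inj (Units.ext ?_)
      rw [map_mul, map_mul, map_pow, Units.val_mul, Units.val_mul, hpow, hg, C.phO_u hM, hm]
      ext i j
      fin_cases i <;> fin_cases j <;> simp [Matrix.mul_apply, Fin.sum_univ_two]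
      linear_combination (-(C.ω * s)) * C.pow_five
    obtain ⟨a, b, c, d⟩ := weight_block hp hF C.prim (C.phE_u hM) (T := C.phE M g)
      (by rw [← map_pow, h1, map_one]) hm (by rw [← map_inv, ← map_mul, ← map_mul, h3, map_pow])
    exact hP a b c d
  have hlowP : ∀ s : F, ∃ g ∈ P, (C.phO M g : M2) = !![1, 0; s, 1] := by
    intro s
    obtain ⟨g, hg, hgm⟩ := hupP (-s)
    refine ⟨C.sf hM * g * (C.sf hM)⁻¹, mul_mem (mul_mem ?_ hg) (inv_mem ?_), ?_⟩
    · exact hP (by simp [C.phE_f hM]) (by simp [C.phE_f hM]) (by simp [C.phE_f hM]) (by simp [C.phE_f hM])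
    · exact hP (by simp [C.phE_f hM]) (by simp [C.phE_f hM]) (by simp [C.phE_f hM]) (by simp [C.phE_f hM])
    rw [map_mul, map_mul, map_inv, Units.val_mul, Units.val_mul,
      show (((C.phO M (C.sf hM))⁻¹ : G2) : M2) = !![0, -1; 1, 0] by
        apply Units.inv_eq_of_mul_eq_one_left
        rw [C.phO_f hM]
        ext i j
        fin_cases i <;> fin_cases j <;> simp [Matrix.mul_apply, Fin.sum_univ_two],
      C.phO_f hM, hgm]
    ext i j
    fin_cases i <;> fin_cases j <;> simp [Matrix.mul_apply, Fin.sum_univ_two]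
  have hd : (C.phO M (C.su' hM) : M2).det = 1 := by
    rw [C.phO_u' hM, Matrix.det_fin_two_of]
    have g := C.geom
    have h5 := C.pow_five
    field_simp
    rw [div_eq_one_iff_eq (pow_ne_zero 2 C.η_ne_zero), pow_two C.η, C.η_sq]
    linear_combination (3 - C.ω ^ 3) * h5 - g
  set a := (C.phO M (C.su' hM) : M2) 0 0 with ha
  set b := (C.phO M (C.su' hM) : M2) 0 1 with hb
  set cc := (C.phO M (C.su' hM) : M2) 1 0 with hcc
  set d := (C.phO M (C.su' hM) : M2) 1 1 with hdd
  have hc0 : cc ≠ 0 := by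
    rw [hcc, C.phO_u' hM]; simpa using ⟨C.η_ne_zero, sub_ne_zero.2 hne14⟩
  rw [Matrix.det_fin_two, ← ha, ← hb, ← hcc, ← hdd] at hd
  obtain ⟨g1, h1, e1⟩ := hupP ((a - 1) / cc)
  obtain ⟨g2, h2', e2⟩ := hlowP cc
  obtain ⟨g3, h3, e3⟩ := hupP ((d - 1) / cc)
  have heq : C.su' hM = g1 * g2 * g3 := inj (Units.ext (by
    rw [map_mul, map_mul, Units.val_mul, Units.val_mul, e1, e2, e3, Matrix.eta_fin_two (C.phO M (C.su' hM) : M2),
      ← ha, ← hb, ← hcc, ← hdd, Matrix.mul_fin_two, Matrix.mul_fin_two]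
    ext i j
    fin_cases i <;> fin_cases j <;> simp <;> field_simp <;> first | linear_combination -hd | linear_combination hd | ring))
  have hu' : C.su' hM ∈ P := heq ▸ mul_mem (mul_mem h1 h2') h3
  rw [Subgroup.mem_comap, Subgroup.mem_centralizer_singleton_iff] at hu'
  have := congrFun (congrFun (congrArg (fun x : G3 => (x : M3)) hu') 0) 1
  simp only [Units.val_mul, hz3, Matrix.mul_diagonal, Matrix.diagonal_mul] at this
  simp at this
  exact mul_ne_zero h2 (C.phE_u'_ne hM h2 0 1) (by linear_combination this)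

set_option synthInstance.maxSize 4000 in
set_option synthInstance.maxHeartbeats 400000 in
/-- The image modulo scalars is the alternating group of degree five. -/
theorem exists_alt : ∃ ρ : C.Hf M →* alternatingGroup (Fin 5), Function.Surjective ρ ∧
    ∀ c, ρ c = 1 ↔ ∃ μ : F, (C.phO M c : M2) = μ • 1 := by
  classical
  have := Fact.mk hp
  have := charP_of_card hp hF
  let : Fintype (GaloisField p 2) := Fintype.ofFinite _
  obtain ⟨ψ, hψ⟩ := exists_proj (F := F) (p := p) hF (by omega)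
  set φ := ψ.comp (C.phO M) with hφ
  have hS := small_of_not_dvd p φ.range (C.not_dvd_range hM hp hF hp7 hno ψ hψ)
  set w := φ.rangeRestrict (C.su hM) with hw
  have hne14 : C.ω ≠ C.ω ^ 4 := fun h => by
    have := C.prim.pow_inj (i := 1) (j := 4) (by norm_num) (by norm_num) (by rw [pow_one]; exact h)
    omega
  have hη := inv_ne_zero C.η_ne_zero
  have hw1 : w ≠ 1 := by
    intro h
    obtain ⟨c, hc⟩ := (hψ _).1 (congrArg Subtype.val h : φ (C.su hM) = 1)
    rw [C.phO_u hM] at hc
    have a := congrFun (congrFun hc 0) 0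
    have b := congrFun (congrFun hc 1) 1
    simp at a b
    exact hne14 (a.trans b.symm)
  have hw5 : w ^ 5 = 1 := by
    rw [hw, ← map_pow, show C.su hM ^ 5 = 1 from Subtype.ext C.u_five, map_one]
  have hww : w * w ≠ 1 := fun h => hw1 (by
    calc w = w * ((w * w) * (w * w)) := by rw [h, mul_one, mul_one]
      _ = w ^ 5 := by simp only [pow_succ, pow_zero, one_mul, mul_assoc]
      _ = 1 := hw5)
  rcases hS with ⟨A, hA, hout⟩ | ⟨⟨e⟩⟩ | ⟨⟨e⟩⟩ | ⟨⟨e⟩⟩
  · exfalso
    have hwA : w ∈ A := by_contra fun h => hww (hout w h).1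
    have h2 := C.two_ne hM hp hF hp7 hno
    have hoff : C.η⁻¹ * (C.ω - C.ω ^ 4) ≠ 0 := mul_ne_zero hη (sub_ne_zero.2 hne14)
    by_cases hw'A : φ.rangeRestrict (C.su' hM) ∈ A
    · have h := hA _ hwA _ hw'A
      rw [hw, ← map_mul, ← map_mul] at h
      have h' : ψ (C.phO M (C.su hM * C.su' hM) * (C.phO M (C.su' hM * C.su hM))⁻¹) = 1 := by
        rw [map_mul ψ, map_inv ψ]
        exact mul_inv_eq_one.2 (congrArg Subtype.val h)
      obtain ⟨c, hc⟩ := (hψ _).1 h'
      have h3 : (C.phO M (C.su hM * C.su' hM) : M2) = c • (C.phO M (C.su' hM * C.su hM) : M2) := by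
        rw [← one_mul (C.phO M (C.su' hM * C.su hM) : M2), ← Matrix.smul_mul, ← hc, ← Units.val_mul,
          inv_mul_cancel_right]
      rw [map_mul, map_mul, Units.val_mul, Units.val_mul, C.phO_u hM, C.phO_u' hM] at h3
      have a := congrFun (congrFun h3 0) 0
      have b := congrFun (congrFun h3 0) 1
      simp [Matrix.mul_apply, Fin.sum_univ_two] at a b
      have hdiag : C.η⁻¹ * (1 - C.ω ^ 4) ≠ 0 := mul_ne_zero hη (sub_ne_zero.2 fun h => by
        have := C.prim.pow_inj (i := 0) (j := 4) (by norm_num) (by norm_num) (by rw [pow_zero]; exact h)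
        omega)
      have hc1 : c = 1 := mul_right_cancel₀ (mul_ne_zero hdiag C.ne_zero) (by linear_combination -a)
      subst hc1
      exact mul_ne_zero hoff (sub_ne_zero.2 hne14) (by linear_combination b)
    · have h : φ (C.su' hM * C.su' hM) = 1 := by
        rw [map_mul]; exact congrArg Subtype.val (hout _ hw'A).1
      obtain ⟨c, hc⟩ := (hψ _).1 h
      rw [map_mul, Units.val_mul, C.phO_u' hM] at hc
      have b := congrFun (congrFun hc 0) 1
      simp [Matrix.mul_apply, Fin.sum_univ_two] at b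
      refine mul_ne_zero hoff (mul_ne_zero hη (?_ : (2 : F) - C.ω - C.ω ^ 4 ≠ 0)) (by linear_combination b)
      intro h
      have h' : (C.ω - 1) * (C.ω - 1) = 0 := by linear_combination -C.ω * h - C.pow_five
      exact C.ne_one (sub_eq_zero.1 (mul_self_eq_zero.1 h'))
  · exfalso
    have h : ∀ w : alternatingGroup (Fin 4), w ^ 5 = 1 → w = 1 := by decide +kernel
    exact hw1 (e.injective (by rw [map_one]; exact h _ (by rw [← map_pow, hw5, map_one])))
  · exfalso
    have h : ∀ w : Equiv.Perm (Fin 4), w ^ 5 = 1 → w = 1 := by decide +kernel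
    exact hw1 (e.injective (by rw [map_one]; exact h _ (by rw [← map_pow, hw5, map_one])))
  · refine ⟨e.toMonoidHom.comp φ.rangeRestrict, e.surjective.comp φ.rangeRestrict_surjective, fun c => ?_⟩
    show e (φ.rangeRestrict c) = 1 ↔ _
    rw [MulEquiv.map_eq_one_iff, ← hψ]
    exact ⟨fun h => congrArg Subtype.val h, fun h => Subtype.ext h⟩

/-- The two facts for the involution theorem. -/
theorem central_facts :
    (∀ x : C.Hf M, x * x = 1 → (x : G5) = 1 ∨ (x : G5) = C.flip) ∧
      ∀ L : Subgroup (C.Hf M), L.Normal → (∀ l ∈ L, Odd (orderOf l)) → ∀ l ∈ L, ∃ z : Fˣ, ((l : C.Hf M) : G5) = sc z := by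
  classical
  have h2 := C.two_ne hM hp hF hp7 hno
  obtain ⟨ρ, hsurj, hρ⟩ := C.exists_alt hM hp hF hp7 hno
  have flip11 : ∀ z : Fˣ, sc z ≠ C.flip := by
    intro z e
    have := congrArg (fun g : G5 => (g : M5) 1 1) e
    simp (config := {decide := true}) [coe_sc, coe_flip] at this
  have hf2 : C.sf hM * C.sf hM = C.sflip hM := Subtype.ext C.f_mul_f
  have hρf : ρ (C.sf hM) ≠ 1 := by
    rw [ne_eq, hρ, C.phO_f hM]
    rintro ⟨μ, hμ⟩
    have := congrFun (congrFun hμ 0) 1
    simp at this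
  have hρflip : ρ (C.sflip hM) = 1 := (hρ _).2 ⟨-1, by
    rw [coe_phO]
    ext i j
    fin_cases i <;> fin_cases j <;> simp (config := {decide := true}) [oMat, sflip, coe_flip]⟩
  constructor
  · intro x hx
    have hx' : (x : G5) * (x : G5) = 1 := congrArg Subtype.val hx
    by_cases hx1 : ρ x = 1
    · obtain ⟨μ, hμ⟩ := (hρ x).1 hx1
      obtain ⟨z, hz5, hc⟩ := C.of_scalar hM hp hF hp7 hno hμ
      have hz : (sc z * sc z : G5) = 1 := by
        rcases hc with hc | hc <;> rw [hc] at hx'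
        · exact hx'
        · rwa [show sc z * C.flip * (sc z * C.flip) = sc z * sc z * (C.flip * C.flip) by
            rw [mul_assoc, ← mul_assoc C.flip, ← sc_comm, mul_assoc (sc z) C.flip, ← mul_assoc],
            C.flip_mul_flip, mul_one] at hx'
      rw [← sc_mul, ← sc_one] at hz
      have hz2 : (z : F) * z = 1 := congrArg Units.val (sc_inj hz)
      have : z = 1 := Units.ext (by
        rw [Units.val_one]; linear_combination hz5 - (z : F) * ((z : F) * z + 1) * hz2)
      rcases hc with hc | hc <;> rw [hc, this, sc_one]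
      · exact Or.inl rfl
      · exact Or.inr (one_mul _)
    · exfalso
      have hb : ρ (C.sf hM) * ρ (C.sf hM) = 1 := by rw [← map_mul, hf2, hρflip]
      obtain ⟨h', hh'⟩ := alt_five_conj (ρ x) (by rw [← map_mul, hx, map_one]) hx1 (ρ (C.sf hM)) hb hρf
      obtain ⟨h, rfl⟩ := hsurj h'
      set y := h * C.sf hM * h⁻¹ with hy
      have hc : ρ (x * y⁻¹) = 1 := by
        rw [map_mul, map_inv, hy, map_mul, map_mul, map_inv, hh', mul_inv_cancel]
      obtain ⟨μ, hμ⟩ := (hρ _).1 hc
      obtain ⟨z, -, hcc⟩ := C.of_scalar hM hp hF hp7 hno hμ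
      set c : G5 := ((x * y⁻¹ : C.Hf M) : G5) with hcdef
      have hyy : (y : G5) * (y : G5) = C.flip := by
        rw [hy, Subgroup.coe_mul, Subgroup.coe_mul, Subgroup.coe_inv]
        rw [show ((h : G5) * (C.sf hM : G5) * (h : G5)⁻¹) * ((h : G5) * (C.sf hM : G5) * (h : G5)⁻¹) =
          (h : G5) * ((C.sf hM : G5) * (C.sf hM : G5)) * (h : G5)⁻¹ by group,
          show (C.sf hM : G5) * (C.sf hM : G5) = C.flip from C.f_mul_f, C.Hf_comm h, mul_inv_cancel_right]
      have hyc : (y : G5) * c = c * (y : G5) := by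
        rcases hcc with hc' | hc' <;> rw [hc']
        · rw [sc_comm]
        · rw [← mul_assoc, ← sc_comm, mul_assoc, mul_assoc, C.Hf_comm y]
      have hxe : (x : G5) = c * (y : G5) := by
        rw [hcdef, Subgroup.coe_mul, Subgroup.coe_inv, inv_mul_cancel_right]
      rw [hxe, mul_assoc, ← mul_assoc (y : G5), hyc, mul_assoc c, hyy, ← mul_assoc] at hx'
      have hcc2 : c * c = sc (z * z) := by
        rcases hcc with hc' | hc' <;> rw [hc', sc_mul]
        rw [mul_assoc, ← mul_assoc C.flip, ← sc_comm, mul_assoc (sc z) C.flip, C.flip_mul_flip, mul_one]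
      rw [hcc2] at hx'
      exact flip11 (z * z)⁻¹ (by rw [Cfsg.Agent.H1.HeisThree.sc_inv]; exact (eq_inv_of_mul_eq_one_right hx').symm)
  · intro L hL hodd l hl
    haveI : IsSimpleGroup (alternatingGroup (Fin 5)) := alternatingGroup.isSimpleGroup_five
    rcases (Subgroup.Normal.map hL ρ hsurj).eq_bot_or_eq_top with hb | htop
    · have : ρ l ∈ L.map ρ := ⟨l, hl, rfl⟩
      rw [hb] at this
      obtain ⟨μ, hμ⟩ := (hρ l).1 (Subgroup.mem_bot.1 this)
      obtain ⟨z, hz5, hc | hc⟩ := C.of_scalar hM hp hF hp7 hno hμ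
      · exact ⟨z, hc⟩
      exfalso
      obtain ⟨k, hk⟩ := hodd l hl
      have h1 : (l : G5) ^ (2 * k + 1) = 1 := by
        rw [← hk, ← Subgroup.coe_pow, pow_orderOf_eq_one]; rfl
      have hcm : Commute (sc z) C.flip := sc_comm z _
      rw [hc, hcm.mul_pow, pow_succ C.flip, pow_mul, pow_two C.flip, C.flip_mul_flip, one_pow, one_mul,
        Cfsg.Agent.H1.HeisThree.sc_pow] at h1
      exact flip11 (z ^ (2 * k + 1))⁻¹ (by
        rw [Cfsg.Agent.H1.HeisThree.sc_inv]; exact (eq_inv_of_mul_eq_one_right h1).symm)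
    · exfalso
      obtain ⟨l', hl', he⟩ := (htop ▸ Subgroup.mem_top (ρ (C.sf hM)) : ρ (C.sf hM) ∈ L.map ρ)
      obtain ⟨k, hk⟩ := hodd l' hl'
      have h1 : ρ l' ^ (2 * k + 1) = 1 := by rw [← map_pow, ← hk, pow_orderOf_eq_one, map_one]
      rw [he, pow_succ, pow_mul, pow_two, ← map_mul, hf2, hρflip, one_pow, one_mul] at h1
      exact hρf h1

end Hyp

end Penta

end Cfsg.Agent.H36.SLFiveHeis
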