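import Cfsg.Agent.H36.SLFiveHeis.Base
import Cfsg.Agent.H99.Diag
import Cfsg.Prelude.Def_GeometricClasses

/-!
The normaliser of `5^(1+2)` is maximal in the special linear group of degree five.
-/

set_option autoImplicit false

namespace Cfsg.Agent.H36.SLFiveHeis

open Matrix
open scoped commutatorElement
open Cfsg.Agent.H1.HeisThree (sc coe_sc sc_mul sc_one sc_inv sc_pow sc_inj sc_comm conj_sc_mul)

/-- A group of prime exponent five all whose characteristic abelian subgroups are cyclic has central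
commutators. -/
theorem commutator_central {G : Type*} [Group G] [Finite G] (hG : IsPGroup 5 G)
    (h5 : ∀ a : G, a ^ 5 = 1) (hchar : ∀ A : Subgroup G, A.Characteristic → IsMulCommutative A → IsCyclic A)
    (a b : G) : a * b * a⁻¹ * b⁻¹ ∈ Subgroup.center G := by
  have := Fact.mk (show Nat.Prime 5 by norm_num)
  by_contra hab
  set D := commutator G with hD
  let Z2 : Subgroup G := (Subgroup.center (G ⧸ Subgroup.center G)).comap (QuotientGroup.mk' _)
  have hZ2 : ∀ x, x ∈ Z2 ↔ ∀ y, x * y * x⁻¹ * y⁻¹ ∈ Subgroup.center G := by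
    intro x
    rw [Subgroup.mem_comap, Subgroup.mem_center_iff]
    constructor
    · intro h y
      rw [← QuotientGroup.eq_one_iff]
      show QuotientGroup.mk' (Subgroup.center G) (x * y * x⁻¹ * y⁻¹) = 1
      rw [map_mul, map_mul, map_mul, map_inv, map_inv, ← h, mul_inv_cancel_right, mul_inv_cancel]
    · intro h q
      obtain ⟨y, rfl⟩ := QuotientGroup.mk'_surjective _ q
      have h1 : QuotientGroup.mk' (Subgroup.center G) (x * y * x⁻¹ * y⁻¹) = 1 := (QuotientGroup.eq_one_iff _).2 (h y)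
      rw [map_mul, map_mul, map_mul, map_inv, map_inv, mul_inv_eq_one, mul_inv_eq_iff_eq_mul] at h1
      exact h1.symm
  have hZ2D : ∀ x ∈ Z2, ∀ d ∈ D, d * x = x * d := by
    intro x hx d hd
    have hle : D ≤ Subgroup.centralizer ({x} : Set G) := by
      rw [hD, commutator_def, Subgroup.commutator_le]
      intro r _ s _
      rw [Subgroup.mem_centralizer_singleton_iff]
      have hr := (hZ2 x).1 hx r
      have hs := (hZ2 x).1 hx s
      obtain ⟨cr, hr, er⟩ : ∃ cr, cr ∈ Subgroup.center G ∧ x * r * x⁻¹ = cr * r := ⟨_, hr, by group⟩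
      obtain ⟨cs, hs, es⟩ : ∃ cs, cs ∈ Subgroup.center G ∧ x * s * x⁻¹ = cs * s := ⟨_, hs, by group⟩
      have k1 : cr * r * (cs * s) = cr * cs * (r * s) :=
        Commute.mul_mul_mul_comm (Subgroup.mem_center_iff.1 hs r) _ _
      have k2 : cs * s * (cr * r) = cr * cs * (s * r) := by
        rw [Commute.mul_mul_mul_comm (Subgroup.mem_center_iff.1 hr s) cs r, Subgroup.mem_center_iff.1 hr cs]
      have k3 : r * s * (s * r)⁻¹ * (cr * cs) = cr * cs * (r * s * (s * r)⁻¹) :=
        Subgroup.mem_center_iff.1 (mul_mem hr hs) _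
      have e : x * ⁅r, s⁆ * x⁻¹ = ⁅r, s⁆ := by
        rw [commutatorElement_def, show x * (r * s * r⁻¹ * s⁻¹) * x⁻¹ =
          (x * r * x⁻¹) * (x * s * x⁻¹) * (x * r * x⁻¹)⁻¹ * (x * s * x⁻¹)⁻¹ by group, er, es,
          mul_assoc (cr * r * (cs * s)), ← _root_.mul_inv_rev, k1, k2, _root_.mul_inv_rev, ← mul_assoc,
          mul_assoc (cr * cs) (r * s), ← k3, mul_inv_cancel_right]
        group
      exact (mul_inv_eq_iff_eq_mul.1 e).symm
    exact Subgroup.mem_centralizer_singleton_iff.1 (hle hd)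
  let A : Subgroup G := D ⊓ Z2
  have hAchar : A.Characteristic := by
    refine Subgroup.characteristic_iff_le_comap.2 fun φ x hx => ?_
    refine ⟨?_, ?_⟩
    · exact Subgroup.characteristic_iff_le_comap.1 (inferInstance : (commutator G).Characteristic) φ hx.1
    · refine (hZ2 _).2 fun y => ?_
      obtain ⟨y, rfl⟩ := φ.surjective y
      have := Subgroup.characteristic_iff_le_comap.1
        (inferInstance : (Subgroup.center G).Characteristic) φ ((hZ2 x).1 hx.2 y)
      simpa using this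
  have hAab : IsMulCommutative A := ⟨⟨fun x y => Subtype.ext (hZ2D _ y.2.2 _ x.2.1)⟩⟩
  have hAZ : A ≤ Subgroup.center G := by
    have := hchar A hAchar hAab
    obtain ⟨⟨g, hg⟩, hgen⟩ := IsCyclic.exists_generator (α := A)
    intro x hx
    obtain ⟨k, hk⟩ := hgen ⟨x, hx⟩
    have hk' : g ^ k = x := congrArg Subtype.val hk
    rw [← hk']
    refine Subgroup.zpow_mem _ ?_ k
    by_contra hgZ
    apply hgZ
    refine Subgroup.mem_center_iff.2 fun y => ?_
    set c := g * y * g⁻¹ * y⁻¹ with hc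
    have hcZ : c ∈ Subgroup.center G := (hZ2 g).1 hg.2 y
    have hcA : c ∈ A := by
      rw [hc, show g * y * g⁻¹ * y⁻¹ = g * (y * g⁻¹ * y⁻¹) by group]
      exact mul_mem hg ((Subgroup.normal_of_characteristic A).conj_mem _ (inv_mem hg) y)
    obtain ⟨i, hi⟩ := hgen ⟨c, hcA⟩
    have hi' : g ^ i = c := congrArg Subtype.val hi
    by_cases h5i : (5 : ℤ) ∣ i
    · obtain ⟨j, rfl⟩ := h5i
      rw [_root_.zpow_mul, show g ^ (5 : ℤ) = 1 from (zpow_natCast g 5).trans (h5 g), _root_.one_zpow, hc, eq_comm, mul_inv_eq_one,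
        mul_inv_eq_iff_eq_mul] at hi'
      exact hi'.symm
    · exfalso
      apply hgZ
      have h51 : IsCoprime i (5 : ℤ) :=
        ((Int.prime_iff_natAbs_prime.2 (by norm_num : Nat.Prime (Int.natAbs 5))).coprime_iff_not_dvd.2 h5i).symm
      obtain ⟨r, s, hrs⟩ := h51
      have : g = c ^ r := by
        rw [← hi', ← _root_.zpow_mul]
        conv_lhs => rw [← zpow_one g, ← hrs, _root_.zpow_add, _root_.zpow_mul _ s, mul_comm r i]
        rw [show g ^ s = g ^ s from rfl]
        simp [show (g ^ s) ^ (5 : ℤ) = 1 from (zpow_natCast _ 5).trans (h5 _)]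
      rw [this]
      exact Subgroup.zpow_mem _ hcZ r
  -- a minimal counterexample in the quotient
  let Db : Subgroup (G ⧸ Subgroup.center G) := D.map (QuotientGroup.mk' _)
  have : Db.Normal := Subgroup.Normal.map inferInstance _ (QuotientGroup.mk'_surjective _)
  have hDb : Db ≠ ⊥ := by
    intro h
    apply hab
    have hm : QuotientGroup.mk' (Subgroup.center G) (a * b * a⁻¹ * b⁻¹) ∈ Db :=
      ⟨_, Subgroup.commutator_mem_commutator (Subgroup.mem_top a) (Subgroup.mem_top b), rfl⟩
    rw [h, Subgroup.mem_bot] at hm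
    exact (QuotientGroup.eq_one_iff _).1 hm
  have hq : IsPGroup 5 (ConjAct (G ⧸ Subgroup.center G)) := (hG.to_quotient _)
  have : Nontrivial Db := (Subgroup.nontrivial_iff_ne_bot _).2 hDb
  obtain ⟨n, hn, hcard⟩ := ((hG.to_quotient (Subgroup.center G)).to_subgroup Db).nontrivial_iff_card.1 this
  obtain ⟨d, hd, hd1⟩ := hq.exists_fixed_point_of_prime_dvd_card_of_fixed_point (α := Db)
    (by rw [hcard]; exact dvd_pow_self 5 (by omega)) (a := 1) (fun g => smul_one g)
  obtain ⟨x, hx, hxd⟩ := d.2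
  have hxZ2 : x ∈ Z2 := by
    rw [Subgroup.mem_comap, hxd, Subgroup.mem_center_iff]
    intro q
    have h := congrArg Subtype.val (hd (ConjAct.toConjAct q))
    rw [ConjAct.Subgroup.val_conj_smul, ConjAct.toConjAct_smul, mul_inv_eq_iff_eq_mul] at h
    exact h
  refine hd1 (Subtype.ext ?_)
  show (1 : G ⧸ Subgroup.center G) = d
  rw [← hxd]
  exact ((QuotientGroup.eq_one_iff x).2 (hAZ ⟨hx, hxZ2⟩)).symm

section Clause

variable {F : Type*} [Field F] [Fintype F]

local notation "T5" => ZMod 5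
local notation "M5" => Matrix (ZMod 5) (ZMod 5) F
local notation "G5" => GL (ZMod 5) F

set_option maxHeartbeats 1000000 in
/-- The clause. -/
theorem heis_maximal {p : ℕ} (hp : p.Prime) (hF : Fintype.card F = p) (hp5 : p % 5 = 1)
    (R : Subgroup G5) (hR : Cfsg.Geo.IsLinearSymplecticTypeData 5 R) :
    Cfsg.Geo.IsMaximalIn (Cfsg.Geo.specialLinear T5 F)
      (Cfsg.Geo.subgroupNormalizer R ⊓ Cfsg.Geo.specialLinear T5 F) := by
  classical
  have hp7 : 7 ≤ p := by
    rcases Nat.lt_or_ge p 7 with h | h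
    · exfalso
      have := hp.two_le
      obtain rfl : p = 6 := by omega
      norm_num at hp
    · exact h
  have hRs := hR.symplecticType
  have h5 : ∀ a : R, a ^ 5 = 1 := fun a => by
    have h := Monoid.pow_exponent_eq_one a
    rwa [hRs.exponent_eq, show 5 * Nat.gcd 2 5 = 5 by norm_num] at h
  obtain ⟨hZ, m, hm, hcard⟩ : Nat.card (Subgroup.center R) = 5 ∧
      ∃ m : ℕ, 1 ≤ m ∧ Nat.card R = 5 ^ (1 + 2 * m) := by
    obtain ⟨p', e, -, -, hc⟩ := hR.field
    rcases hc with ⟨-, -, h, h'⟩ | ⟨h, -⟩ | ⟨h, -⟩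
    · exact ⟨h, h'⟩
    · exact absurd h (by norm_num)
    · exact absurd h (by norm_num)
  have hsch : ∀ g : R, g ∈ Subgroup.center R → ∃ c : Fˣ, (g : G5) = sc c := by
    intro g hg
    obtain ⟨c, hc⟩ := hR.absIrred.2 ((g : G5) : M5) (by
      rintro _ ⟨y, hy, rfl⟩
      exact congrArg (fun a : R => ((a : G5) : M5)) (Subgroup.mem_center_iff.1 hg ⟨y, hy⟩).symm)
    have hc0 : c ≠ 0 := fun h => (g : G5).ne_zero (by rw [hc, h, zero_smul])
    exact ⟨Units.mk0 c hc0, Units.ext (by rw [hc, coe_sc, Units.val_mk0])⟩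
  have hcomm : ∀ a b : R, a * b * a⁻¹ * b⁻¹ ∈ Subgroup.center R :=
    commutator_central hRs.pGroup h5 hRs.cyclic_of_characteristic
  obtain ⟨z, x, hzx⟩ : ∃ z x : R, z * x ≠ x * z := by
    by_contra! hcon
    have htop : Subgroup.center R = ⊤ :=
      eq_top_iff.2 fun g _ => Subgroup.mem_center_iff.2 fun h => hcon h g
    rw [htop, Subgroup.card_top, hcard] at hZ
    have h1 : 5 ^ 2 ≤ 5 ^ (1 + 2 * m) := Nat.pow_le_pow_right (by norm_num) (by omega)
    omega
  obtain ⟨c, hc⟩ := hsch _ (hcomm z x)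
  have hc5 : c ^ 5 = 1 := by
    apply sc_inj (κ := T5)
    rw [← sc_pow, ← hc, ← Subgroup.coe_pow, h5, sc_one]; rfl
  have hc1 : c ≠ 1 := fun h => hzx (by
    rw [h, sc_one] at hc
    have : z * x * z⁻¹ * x⁻¹ = 1 := Subtype.ext hc
    rwa [mul_inv_eq_one, mul_inv_eq_iff_eq_mul] at this)
  have hprim : IsPrimitiveRoot (c : F) 5 := by
    have := Fact.mk (show Nat.Prime 5 by norm_num)
    rw [IsPrimitiveRoot.iff_orderOf]
    exact orderOf_eq_prime (by rw [← Units.val_pow_eq_pow_val, hc5, Units.val_one])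
      (fun h => hc1 (Units.ext h))
  let C : Penta F := ⟨(c : F), hprim⟩
  have hcR : ∀ k : T5, sc (C.chU k) ∈ R := by
    intro k
    have : sc (C.chU k) = ((z * x * z⁻¹ * x⁻¹ : R) : G5) ^ k.val := by
      rw [hc, sc_pow]; congr 1
      apply Units.ext
      rw [Units.val_pow_eq_pow_val]; rfl
    rw [this, ← Subgroup.coe_pow]
    exact Subtype.coe_prop _
  have hzx' : (z : G5) * (x : G5) = sc c * ((x : G5) * (z : G5)) := by
    rw [← hc]
    simp only [Subgroup.coe_mul, Subgroup.coe_inv]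
    group
  -- an eigenvector
  let zm : Module.End F (T5 → F) := Matrix.toLin' ((z : G5) : M5)
  have hz5 : ((z : G5) : M5) ^ 5 = 1 := by
    rw [← Units.val_pow_eq_pow_val, ← Subgroup.coe_pow, h5]; rfl
  obtain ⟨ev, bs, hev, hbs⟩ := Cfsg.Agent.H99.exists_eigenbasis zm (Polynomial.nthRootsFinset 5 (1 : F)) (by
    rw [← Polynomial.X_pow_sub_one_eq_prod (by norm_num) hprim, map_sub, map_pow, Polynomial.aeval_X, map_one,
      ← Matrix.toLin'_pow, hz5, Matrix.toLin'_one]
    exact sub_self _)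
  have hfin : Module.finrank F (T5 → F) = 5 := by rw [Module.finrank_fintype_fun_eq_card, ZMod.card]
  let i0 : Fin (Module.finrank F (T5 → F)) := ⟨0, by omega⟩
  set v := bs i0 with hv
  have hv0 : v ≠ 0 := bs.ne_zero i0
  have hve : ev i0 ^ 5 = 1 := (Polynomial.mem_nthRootsFinset (by norm_num) 1).1 (hev i0)
  obtain ⟨k, hk5, hk⟩ := hprim.eq_pow_of_pow_eq_one hve
  -- the normalised element
  set z' : G5 := (sc (C.chU (k : T5)))⁻¹ * (z : G5) with hz'
  have hz'R : z' ∈ R := mul_mem (inv_mem (hcR _)) z.2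
  have hchk : C.ch (k : T5) = ev i0 := by
    rw [Penta.ch, ZMod.val_natCast, Nat.mod_eq_of_lt hk5]; exact hk
  have hz'v : (z' : M5) *ᵥ v = v := by
    rw [hz', ← sc_inv, Units.val_mul, coe_sc, Matrix.smul_mul, one_mul, Matrix.smul_mulVec]
    have := hbs i0
    rw [show ((z : G5) : M5) *ᵥ v = ev i0 • v from this, smul_smul, Units.val_inv_eq_inv_val, C.coe_chU, hchk,
      inv_mul_cancel₀ (by rw [← hchk]; exact C.ch_ne_zero _), one_smul]
  have hz'x : z' * (x : G5) = sc c * ((x : G5) * z') := by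
    rw [hz', mul_assoc, hzx', ← sc_inv, ← mul_assoc (x : G5), ← sc_comm _ (x : G5), ← mul_assoc,
      ← mul_assoc, ← mul_assoc, ← mul_assoc, ← sc_mul, ← sc_mul, mul_comm]
  -- the basis
  have hx5 : ((x : G5) : M5) ^ 5 = 1 := by
    rw [← Units.val_pow_eq_pow_val, ← Subgroup.coe_pow, h5]; rfl
  let e : T5 → (T5 → F) := fun i => ((x : G5) : M5) ^ i.val *ᵥ v
  have he1 : ∀ i, ((x : G5) : M5) *ᵥ e i = e (i + 1) := by
    intro i
    simp only [e]
    rw [Matrix.mulVec_mulVec, ← pow_succ', ZMod.val_add, ← pow_eq_pow_mod _ hx5]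
    rfl
  have heig : ∀ n : ℕ, (z' : M5) *ᵥ (((x : G5) : M5) ^ n *ᵥ v) = C.ω ^ n • (((x : G5) : M5) ^ n *ᵥ v) := by
    intro n
    induction n with
    | zero => simp [hz'v]
    | succ n ih =>
      have h := congrArg (fun g : G5 => (g : M5)) hz'x
      simp only [Units.val_mul, coe_sc, Matrix.smul_mul, one_mul] at h
      rw [pow_succ', ← Matrix.mulVec_mulVec, Matrix.mulVec_mulVec _ (z' : M5), h, Matrix.smul_mulVec,
        ← Matrix.mulVec_mulVec, ih, Matrix.mulVec_smul, smul_smul, pow_succ' C.ω]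
  have hli : LinearIndependent F e := by
    refine Module.End.eigenvectors_linearIndependent' (Matrix.toLin' (z' : M5)) C.ch (fun a b h => C.ch_inj h) e
      fun i => ⟨?_, ?_⟩
    · rw [Module.End.mem_eigenspace_iff, Matrix.toLin'_apply]
      exact heig i.val
    · intro h0
      apply hv0
      have := congrArg (fun w => ((((x : G5) ^ i.val)⁻¹ : G5) : M5) *ᵥ w) h0
      simp only [e, Matrix.mulVec_mulVec, Matrix.mulVec_zero, ← Units.val_pow_eq_pow_val, ← Units.val_mul,
        inv_mul_cancel, Units.val_one, Matrix.one_mulVec] at this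
      exact this
  let Pm : M5 := Matrix.of fun r i => e i r
  obtain ⟨P, hP⟩ : IsUnit Pm := Matrix.linearIndependent_cols_iff_isUnit.1 (by
    show LinearIndependent F (fun i => Pm.col i)
    exact hli)
  have hcolmul : ∀ (A : M5) (i : T5), (fun r => (A * Pm) r i) = A *ᵥ e i := fun A i => by
    funext r
    simp [Matrix.mul_apply, Matrix.mulVec, dotProduct, Pm]
  have hcolW : ∀ (w : T5 × T5) (i : T5), (fun r => (Pm * C.wMat w) r i) = C.ch (w.2 * i) • e (i + w.1) := fun w i => by
    funext r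
    rw [Matrix.mul_apply, Finset.sum_eq_single (i + w.1)]
    · simp [Penta.wMat_apply, Pm, mul_comm]
    · intro j _ hj; simp [Penta.wMat_apply, hj]
    · simp
  have hW10 : P * C.W (1, 0) * P⁻¹ = (x : G5) := by
    rw [mul_inv_eq_iff_eq_mul]
    apply Units.ext
    rw [Units.val_mul, Units.val_mul, C.coe_W, hP]
    ext r i
    rw [show (Pm * C.wMat (1, 0)) r i = (C.ch (0 * i) • e (i + 1)) r from congrFun (hcolW (1, 0) i) r,
      show (((x : G5) : M5) * Pm) r i = (((x : G5) : M5) *ᵥ e i) r from congrFun (hcolmul _ i) r, he1,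
      zero_mul, C.ch_zero, one_smul]
  have hW01 : P * C.W (0, 1) * P⁻¹ = z' := by
    rw [mul_inv_eq_iff_eq_mul]
    apply Units.ext
    rw [Units.val_mul, Units.val_mul, C.coe_W, hP]
    ext r i
    rw [show (Pm * C.wMat (0, 1)) r i = (C.ch (1 * i) • e (i + 0)) r from congrFun (hcolW (0, 1) i) r,
      show ((z' : M5) * Pm) r i = ((z' : M5) *ᵥ e i) r from congrFun (hcolmul _ i) r, one_mul, add_zero]
    rw [show (z' : M5) *ᵥ e i = C.ω ^ i.val • e i from heig i.val]
    rfl
  set φ : G5 ≃* G5 := MulAut.conj P with hφ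
  have hφa : ∀ g, φ g = P * g * P⁻¹ := fun g => rfl
  have hscφ : ∀ d : Fˣ, φ (sc d) = sc d := fun d => by rw [hφa, ← sc_comm, mul_inv_cancel_right]
  set R' := R.comap φ.toMonoidHom with hR'
  have hW' : ∀ w : T5 × T5, C.W w ∈ R' := by
    have h1 : C.W (1, 0) ∈ R' := by show φ _ ∈ R; rw [hφa, hW10]; exact x.2
    have h2 : C.W (0, 1) ∈ R' := by show φ _ ∈ R; rw [hφa, hW01]; exact hz'R
    have hs : ∀ d : T5, sc (C.chU d) ∈ R' := fun d => by show φ _ ∈ R; rw [hscφ]; exact hcR d
    have hadd : ∀ v w, C.W v ∈ R' → C.W w ∈ R' → C.W (v + w) ∈ R' := fun v w hv hw => by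
      rw [← inv_mul_cancel_left (sc (C.chU (v.2 * w.1))) (C.W (v + w)), ← C.W_mul]
      exact mul_mem (inv_mem (hs _)) (mul_mem hv hw)
    have hn : ∀ (v : T5 × T5), C.W v ∈ R' → ∀ n : ℕ, C.W (n • v) ∈ R' := by
      intro v hv n
      induction n with
      | zero => rw [zero_smul, C.W_zero]; exact one_mem _
      | succ n ih => rw [succ_nsmul]; exact hadd _ _ ih hv
    intro w
    have : w = w.1.val • ((1, 0) : T5 × T5) + w.2.val • ((0, 1) : T5 × T5) := by revert w; decide
    rw [this]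
    exact hadd _ _ (hn _ h1 _) (hn _ h2 _)
  have hpow5 : ∀ g ∈ R', g ^ 5 = 1 := by
    intro g hg
    apply φ.injective
    rw [map_pow, map_one]
    exact congrArg Subtype.val (h5 ⟨φ g, hg⟩)
  have hRmem : ∀ g, g ∈ R' ↔ ∃ (d : Fˣ) (w : T5 × T5), d ^ 5 = 1 ∧ g = sc d * C.W w := by
    intro g
    constructor
    · intro hg
      have hfix : C.Lift g id := fun w => by
        obtain ⟨d, hd⟩ := hsch _ (hcomm ⟨φ g, hg⟩ ⟨φ (C.W w), hW' w⟩)
        refine ⟨d, φ.injective ?_⟩
        simp only [Subgroup.coe_mul, Subgroup.coe_inv, mul_inv_eq_iff_eq_mul] at hd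
        rw [id, map_mul, map_mul, map_inv, map_mul, hscφ, mul_inv_eq_iff_eq_mul]
        exact hd
      obtain ⟨d, w, rfl⟩ := C.inR_of_fix hfix
      refine ⟨d, w, ?_, rfl⟩
      have h := hpow5 _ hg
      rw [(show Commute (sc d) (C.W w) from sc_comm d _).mul_pow, C.W_five, mul_one, sc_pow, ← sc_one] at h
      exact sc_inj h
    · rintro ⟨d, w, hd, rfl⟩
      obtain ⟨i, hi, hdi⟩ := hprim.eq_pow_of_pow_eq_one (show (d : F) ^ 5 = 1 by
        rw [← Units.val_pow_eq_pow_val, hd, Units.val_one])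
      have : d = C.chU (i : T5) := Units.ext (by
        rw [C.coe_chU, Penta.ch, ZMod.val_natCast, Nat.mod_eq_of_lt hi]; exact hdi.symm)
      rw [this]
      refine mul_mem ?_ (hW' w)
      show φ _ ∈ R
      rw [hscφ]; exact hcR _
  -- normalisers
  have hnorm : ∀ g : G5, C.Normalises g → g ∈ Subgroup.normalizer (R' : Set G5) := by
    intro g hg
    have hfwd : ∀ r ∈ R', g * r * g⁻¹ ∈ R' := by
      intro r hr
      obtain ⟨d, w, hd, rfl⟩ := (hRmem r).1 hr
      obtain ⟨d', w', he⟩ := hg w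
      refine (hRmem _).2 ⟨d * d', w', ?_, by rw [conj_sc_mul, he, ← mul_assoc, ← sc_mul]⟩
      have h := congrArg (· ^ 5) he
      simp only [conj_pow, C.W_five, mul_one, mul_inv_cancel,
        (show Commute (sc d') (C.W w') from sc_comm d' _).mul_pow, sc_pow] at h
      rw [mul_pow, hd, one_mul]
      exact sc_inj (h.symm.trans sc_one.symm)
    refine Subgroup.mem_normalizer_iff.2 fun r => ⟨hfwd r, fun hr => ?_⟩
    let cj : R' → R' := fun r => ⟨_, hfwd r r.2⟩
    obtain ⟨r', he⟩ := (Finite.injective_iff_surjective.1 (show Function.Injective cj from fun a b h =>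
      Subtype.ext (mul_left_cancel (mul_right_cancel (congrArg Subtype.val h))))) ⟨_, hr⟩
    have := congrArg Subtype.val he
    rw [← mul_left_cancel (mul_right_cancel this)]
    exact r'.2
  have hdetW : ∀ w : T5 × T5, ((C.W w : G5) : M5).det = 1 := by
    intro w
    have key : ∀ w : T5 × T5, ((C.W (-(w + w)) : G5) : M5).det = 1 := by
      intro w
      have h : C.flip * C.W w * C.flip * (C.W w)⁻¹ = sc (C.chU ((w + w).2 * w.1)) * C.W (-(w + w)) := by
        rw [C.flip_W, mul_assoc (C.W (-w)) C.flip, C.flip_mul_flip, mul_one, mul_inv_eq_iff_eq_mul, mul_assoc, C.W_mul,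
          show -(w + w) + w = -w by abel, ← mul_assoc, ← sc_mul,
          show C.chU ((w + w).2 * w.1) * C.chU ((-(w + w)).2 * w.1) = 1 from Units.ext (by
            rw [Units.val_mul, C.coe_chU, C.coe_chU, ← C.ch_add, Units.val_one, ← C.ch_zero]
            congr 1
            revert w; decide), sc_one, one_mul]
      have h' := congrArg (fun g : G5 => (g : M5).det) h
      simp only [Units.val_mul, Matrix.det_mul, Matrix.coe_units_inv, Matrix.det_nonsing_inv, C.det_flip,
        one_mul, mul_one, coe_sc, Matrix.det_smul, Matrix.det_one, C.coe_chU, C.ch_pow, ZMod.card] at h'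
      rw [Ring.inverse_eq_inv', mul_inv_cancel₀ ((Matrix.isUnits_det_units _).ne_zero),
        show ((5 : ℕ) : T5) = 0 from rfl, zero_mul, C.ch_zero, one_mul] at h'
      exact h'.symm
    have h4 : ∀ w : T5 × T5, -((w + w) + (w + w)) = w := by decide
    have := key (w + w)
    rwa [h4] at this
  -- transport
  have hSL : ∀ g, φ g ∈ Cfsg.Geo.specialLinear T5 F ↔ g ∈ Cfsg.Geo.specialLinear T5 F := fun g => by
    haveI : (Cfsg.Geo.specialLinear T5 F).Normal := by unfold Cfsg.Geo.specialLinear; infer_instance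
    rw [hφa]
    exact ⟨fun h => by simpa [mul_assoc] using Subgroup.Normal.conj_mem inferInstance _ h P⁻¹,
      fun h => Subgroup.Normal.conj_mem inferInstance _ h P⟩
  have hSLdet : ∀ g : G5, g ∈ Cfsg.Geo.specialLinear T5 F ↔ (g : M5).det = 1 := fun g => by
    rw [Cfsg.Geo.specialLinear, MonoidHom.mem_ker]
    exact ⟨fun h => by simpa using congrArg Units.val h, fun h => Units.ext (by simpa using h)⟩
  have hN : ∀ g, φ g ∈ Cfsg.Geo.subgroupNormalizer R ↔ g ∈ Subgroup.normalizer (R' : Set G5) := fun g => by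
    rw [Cfsg.Geo.subgroupNormalizer, Subgroup.mem_normalizer_iff, Subgroup.mem_normalizer_iff,
      φ.surjective.forall]
    refine forall_congr' fun r => ?_
    rw [← map_inv, ← map_mul, ← map_mul]
    exact Iff.rfl
  refine ⟨lt_of_le_of_ne inf_le_right fun h => ?_, fun M hle hMS => ?_⟩
  · let t : G5 := Units.mk (Matrix.transvection 1 0 (1 : F)) (Matrix.transvection 1 0 (-1 : F))
      (by rw [Matrix.transvection_mul_transvection_same _ _ (by decide), add_neg_cancel, Matrix.transvection_zero])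
      (by rw [Matrix.transvection_mul_transvection_same _ _ (by decide), neg_add_cancel, Matrix.transvection_zero])
    have ht : φ t ∈ Cfsg.Geo.subgroupNormalizer R ⊓ Cfsg.Geo.specialLinear T5 F := by
      rw [h, hSL, hSLdet]
      exact Matrix.det_transvection_of_ne _ _ (by decide) _
    obtain ⟨d, w, -, he⟩ := (hRmem _).1
      ((Subgroup.mem_normalizer_iff.1 ((hN t).1 ht.1) (C.W (0, 1))).1 (hW' _))
    have he' : (t : M5) * C.wMat (0, 1) * (Matrix.transvection 1 0 (-1 : F)) = (d : F) • C.wMat w := by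
      have h' := congrArg (fun g : G5 => (g : M5)) he
      simp only [Units.val_mul, coe_sc, Matrix.smul_mul, one_mul] at h'
      exact h'
    have e10 := congrFun (congrFun he' 1) 0
    have e00 := congrFun (congrFun he' 0) 0
    simp (config := {decide := true}) [t, Matrix.mul_apply, sum5, Matrix.transvection, Matrix.single_apply,
      Matrix.one_apply, Penta.wMat_apply, C.ch_zero, C.ch_one] at e10 e00
    by_cases hw : w.1 = 0
    · simp (config := {decide := true}) [hw] at e10
      exact C.ne_one (by linear_combination -e10)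
    · simp [Ne.symm hw] at e00
  have hM' : C.ContainsN (M.comap φ.toMonoidHom) := by
    have mem : ∀ g : G5, C.Normalises g → (g : M5).det = 1 → g ∈ M.comap φ.toMonoidHom :=
      fun g hg hd => hle ⟨(hN g).2 (hnorm g hg), (hSL g).2 ((hSLdet g).2 hd)⟩
    exact ⟨fun w => mem _ (C.normalises_W w) (hdetW w), mem _ C.normalises_u C.det_u,
      mem _ C.normalises_u' C.det_u', mem _ C.normalises_f C.det_f,
      fun g hg => (hSLdet g).1 ((hSL g).1 (hMS hg))⟩
  rcases C.base hp hF hp7 hM' with h | h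
  · refine Or.inl (le_antisymm (fun g hg => ?_) hle)
    obtain ⟨g, rfl⟩ := φ.surjective g
    exact ⟨(hN g).2 (hnorm g (h g hg)), hMS hg⟩
  · refine Or.inr (le_antisymm hMS fun g hg => ?_)
    obtain ⟨g, rfl⟩ := φ.surjective g
    exact h g ((hSLdet g).1 ((hSL g).1 hg))

end Clause

end Cfsg.Agent.H36.SLFiveHeis
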