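import Cfsg.Agent.H1.HeisThree.Cases

/-!
The Heisenberg group of order `5³` in dimension five and elements normalising it.
-/

set_option autoImplicit false

namespace Cfsg.Agent.H36.SLFiveHeis

open Matrix
open Cfsg.Agent.H1.HeisThree (sc coe_sc sc_mul sc_one sc_inv sc_pow sc_comm sc_inj conj_sc_mul scGrp)

/-- A primitive fifth root of unity. -/
structure Penta (F : Type*) [Field F] where
  ω : F
  prim : IsPrimitiveRoot ω 5

local notation "T5" => ZMod 5
local notation "V" => ZMod 5 × ZMod 5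

namespace Penta

variable {F : Type*} [Field F] (C : Penta F)

local notation "M5" => Matrix (ZMod 5) (ZMod 5) F
local notation "G5" => GL (ZMod 5) F

theorem pow_five : C.ω ^ 5 = 1 := C.prim.pow_eq_one

theorem ne_zero : C.ω ≠ 0 := C.prim.ne_zero (by norm_num)

theorem ne_one : C.ω ≠ 1 := C.prim.ne_one (by norm_num)

theorem geom : 1 + C.ω + C.ω ^ 2 + C.ω ^ 3 + C.ω ^ 4 = 0 := by
  have h := C.prim.geom_sum_eq_zero (by norm_num)
  simpa [Finset.sum_range_succ, add_assoc] using h

/-- The additive character. -/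
def ch (i : T5) : F := C.ω ^ i.val

theorem ch_zero : C.ch 0 = 1 := pow_zero _
theorem ch_one : C.ch 1 = C.ω := pow_one _
theorem ch_two : C.ch 2 = C.ω ^ 2 := rfl
theorem ch_three : C.ch 3 = C.ω ^ 3 := rfl
theorem ch_four : C.ch 4 = C.ω ^ 4 := rfl

theorem ch_add (i j : T5) : C.ch (i + j) = C.ch i * C.ch j := by
  rw [ch, ch, ch, ← pow_add, ZMod.val_add, ← pow_eq_pow_mod _ C.pow_five]

theorem ch_mul_neg (i : T5) : C.ch i * C.ch (-i) = 1 := by rw [← C.ch_add, add_neg_cancel, C.ch_zero]

theorem ch_ne_zero (i : T5) : C.ch i ≠ 0 := pow_ne_zero _ C.ne_zero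

theorem ch_eq_one {i : T5} (h : C.ch i = 1) : i = 0 := by
  have h' := C.prim.dvd_of_pow_eq_one _ h
  have := ZMod.val_lt i
  exact (ZMod.val_eq_zero i).1 (Nat.eq_zero_of_dvd_of_lt h' this)

theorem ch_inj {i j : T5} (h : C.ch i = C.ch j) : i = j := by
  have h1 : C.ch (i + -j) = 1 := by rw [C.ch_add, h, C.ch_mul_neg]
  exact add_neg_eq_zero.1 (C.ch_eq_one h1)

theorem ch_pow (i : T5) (n : ℕ) : C.ch i ^ n = C.ch (n * i) := by
  induction n with
  | zero => simp [C.ch_zero]
  | succ n ih => rw [pow_succ, ih, ← C.ch_add]; push_cast; congr 1; ring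

theorem five_ne_zero (C : Penta F) : (5 : F) ≠ 0 := fun h => by
  have := C.prim.neZero'
  exact NeZero.ne ((5 : ℕ) : F) (by exact_mod_cast h)

theorem sum_ch_mul (k : T5) : ∑ j, C.ch (j * k) = if k = 0 then (5 : F) else 0 := by
  by_cases hk : k = 0
  · subst hk
    simp [C.ch_zero, ZMod.card]
  rw [if_neg hk]
  have h : C.ch k * ∑ j, C.ch (j * k) = ∑ j, C.ch (j * k) := by
    rw [Finset.mul_sum]
    refine Fintype.sum_equiv (Equiv.addRight 1) _ _ fun j => ?_
    rw [← C.ch_add, Equiv.coe_addRight]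
    congr 1
    ring
  have h' : (C.ch k - 1) * ∑ j, C.ch (j * k) = 0 := by linear_combination h
  exact (mul_eq_zero.1 h').resolve_left (sub_ne_zero.2 fun e => hk (C.ch_eq_one e))

/-- The matrix `T^a Z^b`. -/
def wMat (v : V) : M5 := Matrix.of fun i j => if i = j + v.1 then C.ch (v.2 * j) else 0

theorem wMat_apply (v : V) (i j : T5) : C.wMat v i j = if i = j + v.1 then C.ch (v.2 * j) else 0 := rfl

theorem wMat_mul (u v : V) : C.wMat u * C.wMat v = C.ch (u.2 * v.1) • C.wMat (u + v) := by
  ext i k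
  rw [Matrix.mul_apply, Matrix.smul_apply, Finset.sum_eq_single (k + v.1)]
  · simp only [wMat_apply, Prod.fst_add, Prod.snd_add, if_true, smul_eq_mul]
    by_cases h : i = k + v.1 + u.1
    · rw [if_pos h, if_pos (by rw [h]; abel), ← C.ch_add, ← C.ch_add]
      congr 1
      ring
    · rw [if_neg h, if_neg (fun e => h (by rw [e]; abel)), zero_mul, mul_zero]
  · intro j _ hj
    simp [wMat_apply, hj]
  · simp

theorem wMat_zero : C.wMat 0 = 1 := by
  ext i j
  simp [wMat_apply, Matrix.one_apply, C.ch_zero]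

/-- The element `T^a Z^b`. -/
def W (v : V) : G5 where
  val := C.wMat v
  inv := C.ch (v.2 * v.1) • C.wMat (-v)
  val_inv := by
    rw [Matrix.mul_smul, C.wMat_mul, smul_smul, add_neg_cancel, C.wMat_zero, Prod.fst_neg, mul_neg,
      C.ch_mul_neg, one_smul]
  inv_val := by
    rw [Matrix.smul_mul, C.wMat_mul, smul_smul, neg_add_cancel, C.wMat_zero, Prod.snd_neg, neg_mul,
      C.ch_mul_neg, one_smul]

theorem coe_W (v : V) : (C.W v : M5) = C.wMat v := rfl

/-- The character as a unit. -/
def chU (i : T5) : Fˣ := Units.mk0 _ (C.ch_ne_zero i)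

theorem coe_chU (i : T5) : (C.chU i : F) = C.ch i := rfl

theorem W_mul (u v : V) : C.W u * C.W v = sc (C.chU (u.2 * v.1)) * C.W (u + v) := by
  apply Units.ext
  rw [Units.val_mul, Units.val_mul, coe_sc, coe_W, coe_W, coe_W, C.wMat_mul, Matrix.smul_mul, one_mul]
  rfl

theorem W_zero : C.W 0 = 1 := Units.ext C.wMat_zero

theorem sc_W_inj {c d : Fˣ} {u v : V} (h : sc c * C.W u = sc d * C.W v) : c = d ∧ u = v := by
  have h' : ∀ i j, (c : F) * C.wMat u i j = (d : F) * C.wMat v i j := fun i j => by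
    have := congrArg (fun g : G5 => (g : M5) i j) h
    simpa [coe_sc, coe_W, Matrix.smul_mul] using this
  have h0 := h' u.1 0
  have h1 : u.1 = v.1 := by
    by_contra hne
    simp [wMat_apply, hne, C.ch_zero] at h0
  have hc : c = d := Units.ext (by simpa [wMat_apply, h1, C.ch_zero] using h0)
  refine ⟨hc, Prod.ext h1 ?_⟩
  have h2 := h' (1 + u.1) 1
  rw [hc] at h2
  simp [wMat_apply, h1] at h2
  exact C.ch_inj h2

theorem W_five (v : V) : C.W v ^ 5 = 1 := by
  have e : ∀ v : V, v + v + v + v + v = 0 := by decide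
  have hc : ∀ (c : Fˣ) (g h : G5), g * (sc c * h) = sc c * (g * h) := fun c g h => by
    rw [← mul_assoc, ← sc_comm, mul_assoc]
  rw [pow_succ, pow_succ, pow_succ, pow_two, W_mul, mul_assoc (sc _), W_mul, ← mul_assoc (sc _),
    ← sc_mul, mul_assoc (sc _), W_mul, ← mul_assoc (sc _), ← sc_mul, mul_assoc (sc _), W_mul,
    ← mul_assoc (sc _), ← sc_mul, e v, W_zero, mul_one, ← sc_one]
  congr 1
  apply Units.ext
  simp only [Units.val_mul, coe_chU, ← C.ch_add, Units.val_one, Prod.snd_add]
  rw [← C.ch_zero]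
  congr 1
  revert v
  decide

/-- The Gauss sum. -/
def η : F := C.ω + C.ω ^ 4 - C.ω ^ 2 - C.ω ^ 3

theorem η_sq : C.η * C.η = 5 := by
  have h := C.pow_five
  have g := C.geom
  rw [η]
  linear_combination (C.ω ^ 3 - 2 * C.ω ^ 2 - C.ω + 4) * h - g

theorem η_ne_zero : C.η ≠ 0 := fun h => C.five_ne_zero (by rw [← C.η_sq, h, zero_mul])

/-- The diagonal element. -/
def u : G5 where
  val := Matrix.diagonal fun i => C.ch (i * i)
  inv := Matrix.diagonal fun i => C.ch (-(i * i))
  val_inv := by simp [Matrix.diagonal_mul_diagonal, C.ch_mul_neg, Matrix.diagonal_one]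
  inv_val := by simp [Matrix.diagonal_mul_diagonal, mul_comm (C.ch (-_)), C.ch_mul_neg, Matrix.diagonal_one]

theorem coe_u : (C.u : M5) = Matrix.diagonal fun i => C.ch (i * i) := rfl

/-- The circulant element. -/
def u' : G5 where
  val := Matrix.of fun i j => C.η⁻¹ * C.ch ((i - j) * (i - j))
  inv := Matrix.of fun i j => C.η⁻¹ * C.ch (-((i - j) * (i - j)))
  val_inv := by
    ext i k
    rw [Matrix.mul_apply]
    simp only [Matrix.of_apply]
    rw [Finset.sum_congr rfl fun j _ => show C.η⁻¹ * C.ch ((i - j) * (i - j)) * (C.η⁻¹ * C.ch (-((j - k) * (j - k))))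
      = C.η⁻¹ * C.η⁻¹ * C.ch (i * i - k * k) * C.ch (j * (2 * (k - i))) by
        rw [mul_assoc (C.η⁻¹ * C.η⁻¹), ← C.ch_add, show i * i - k * k + j * (2 * (k - i)) =
          (i - j) * (i - j) + -((j - k) * (j - k)) by ring, C.ch_add]
        ring,
      ← Finset.mul_sum, C.sum_ch_mul, Matrix.one_apply]
    by_cases h : i = k
    · subst h
      rw [if_pos (by simp), if_pos rfl, sub_self, C.ch_zero, mul_one, ← mul_inv, C.η_sq,
        inv_mul_cancel₀ C.five_ne_zero]
    · rw [if_neg, if_neg h, mul_zero]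
      revert h; revert i k; decide
  inv_val := by
    ext i k
    rw [Matrix.mul_apply]
    simp only [Matrix.of_apply]
    rw [Finset.sum_congr rfl fun j _ => show C.η⁻¹ * C.ch (-((i - j) * (i - j))) * (C.η⁻¹ * C.ch ((j - k) * (j - k)))
      = C.η⁻¹ * C.η⁻¹ * C.ch (k * k - i * i) * C.ch (j * (2 * (i - k))) by
        rw [mul_assoc (C.η⁻¹ * C.η⁻¹), ← C.ch_add, show k * k - i * i + j * (2 * (i - k)) =
          -((i - j) * (i - j)) + (j - k) * (j - k) by ring, C.ch_add]
        ring,
      ← Finset.mul_sum, C.sum_ch_mul, Matrix.one_apply]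
    by_cases h : i = k
    · subst h
      rw [if_pos (by simp), if_pos rfl, sub_self, C.ch_zero, mul_one, ← mul_inv, C.η_sq,
        inv_mul_cancel₀ C.five_ne_zero]
    · rw [if_neg, if_neg h, mul_zero]
      revert h; revert i k; decide

theorem coe_u' (i j : T5) : (C.u' : M5) i j = C.η⁻¹ * C.ch ((i - j) * (i - j)) := rfl

/-- Negation of the coordinates. -/
def flip (_C : Penta F) : G5 where
  val := Matrix.of fun i j => if i = -j then 1 else 0
  inv := Matrix.of fun i j => if i = -j then 1 else 0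
  val_inv := by
    ext i k
    rw [Matrix.mul_apply, Finset.sum_eq_single (-k)]
    · by_cases h : i = k <;> simp [Matrix.one_apply, h]
    · intro j _ hj; simp [hj]
    · simp
  inv_val := by
    ext i k
    rw [Matrix.mul_apply, Finset.sum_eq_single (-k)]
    · by_cases h : i = k <;> simp [Matrix.one_apply, h]
    · intro j _ hj; simp [hj]
    · simp

theorem coe_flip (i j : T5) : (C.flip : M5) i j = if i = -j then 1 else 0 := rfl

/-- The signed doubling of the coordinates. -/
def f (_C : Penta F) : G5 where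
  val := Matrix.of fun i j => if i = 2 * j then -1 else 0
  inv := Matrix.of fun i j => if i = 3 * j then -1 else 0
  val_inv := by
    ext i k
    rw [Matrix.mul_apply, Finset.sum_eq_single (3 * k)]
    · simp only [Matrix.of_apply, if_true, Matrix.one_apply]
      have e : 2 * (3 * k) = k := by revert k; decide
      rw [e]
      by_cases h : i = k <;> simp [h]
    · intro j _ hj; simp [hj]
    · simp
  inv_val := by
    ext i k
    rw [Matrix.mul_apply, Finset.sum_eq_single (2 * k)]
    · simp only [Matrix.of_apply, if_true, Matrix.one_apply]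
      have e : 3 * (2 * k) = k := by revert k; decide
      rw [e]
      by_cases h : i = k <;> simp [h]
    · intro j _ hj; simp [hj]
    · simp

theorem coe_f (i j : T5) : (C.f : M5) i j = if i = 2 * j then -1 else 0 := rfl

theorem flip_mul_flip : C.flip * C.flip = 1 := Units.ext C.flip.val_inv

theorem flip_inv : C.flip⁻¹ = C.flip := inv_eq_of_mul_eq_one_right C.flip_mul_flip

theorem f_mul_f : C.f * C.f = C.flip := by
  apply Units.ext
  ext i k
  rw [Units.val_mul, Matrix.mul_apply, Finset.sum_eq_single (2 * k)]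
  · simp only [coe_f, coe_flip, if_true]
    have e : 2 * (2 * k) = -k := by revert k; decide
    rw [e]
    by_cases h : i = -k <;> simp [h]
  · intro j _ hj; simp [coe_f, hj]
  · simp

theorem u_five : C.u ^ 5 = 1 := by
  apply Units.ext
  rw [Units.val_pow_eq_pow_val, coe_u, Matrix.diagonal_pow, Units.val_one, ← Matrix.diagonal_one]
  congr 1
  funext i
  rw [Pi.pow_apply, ch, ← pow_mul, mul_comm, pow_mul, C.pow_five, one_pow]

/-- The Fourier matrix conjugates the circulant element to the diagonal one. -/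
theorem u'_fourier :
    (C.u' : M5) * (Matrix.of fun i j => C.ch (2 * (i * j))) =
      (Matrix.of fun i j => C.ch (2 * (i * j))) * Matrix.diagonal fun j => C.ch (-(j * j)) := by
  ext i l
  rw [Matrix.mul_diagonal, Matrix.mul_apply]
  simp only [Matrix.of_apply, coe_u']
  have g : ∑ k : T5, C.ch (k * k) = C.η := by
    have h5 : (Finset.univ : Finset T5) = {0, 1, 2, 3, 4} := by decide
    rw [h5]
    rw [Finset.sum_insert (by decide), Finset.sum_insert (by decide), Finset.sum_insert (by decide),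
      Finset.sum_insert (by decide), Finset.sum_singleton, show (0 : T5) * 0 = 0 from rfl, show (1 : T5) * 1 = 1 from rfl,
      show (2 : T5) * 2 = 4 from rfl, show (3 : T5) * 3 = 4 from rfl, show (4 : T5) * 4 = 1 from rfl,
      C.ch_zero, C.ch_one, C.ch_four, η]
    linear_combination C.geom
  rw [Finset.sum_congr rfl fun k _ => show C.η⁻¹ * C.ch ((i - k) * (i - k)) * C.ch (2 * (k * l)) =
    C.η⁻¹ * C.ch (2 * (i * l) + -(l * l)) * C.ch ((k - (i - l)) * (k - (i - l))) by
      rw [mul_assoc, mul_assoc, ← C.ch_add, ← C.ch_add]; congr 2; ring,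
    ← Finset.mul_sum]
  rw [show ∑ k : T5, C.ch ((k - (i - l)) * (k - (i - l))) = C.η by
    rw [← g]; exact Fintype.sum_equiv (Equiv.subRight (i - l)) _ _ fun k => rfl]
  rw [mul_comm C.η⁻¹, mul_assoc, inv_mul_cancel₀ C.η_ne_zero, mul_one, C.ch_add]

theorem det_u : (C.u : M5).det = 1 := by
  rw [coe_u, Matrix.det_diagonal]
  have h5 : (Finset.univ : Finset T5) = {0, 1, 2, 3, 4} := by decide
  rw [h5]
  simp only [Finset.prod_insert, Finset.mem_insert, Finset.mem_singleton, Finset.prod_singleton,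
    (by decide : ¬ ((0 : T5) = 1 ∨ (0 : T5) = 2 ∨ (0 : T5) = 3 ∨ (0 : T5) = 4)),
    (by decide : ¬ ((1 : T5) = 2 ∨ (1 : T5) = 3 ∨ (1 : T5) = 4)),
    (by decide : ¬ ((2 : T5) = 3 ∨ (2 : T5) = 4)), (by decide : ¬ ((3 : T5) = 4)), not_false_eq_true,
    ← C.ch_add]
  exact C.ch_zero

theorem det_u' : (C.u' : M5).det = 1 := by
  have h := congrArg Matrix.det C.u'_fourier
  rw [Matrix.det_mul, Matrix.det_mul, mul_comm, Matrix.det_diagonal] at h
  have hP : (Matrix.of fun i j => C.ch (2 * (i * j)) : M5).det ≠ 0 := by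
    have e : (Matrix.of fun i j => C.ch (2 * (i * j)) : M5) * (Matrix.of fun i j => C.ch (-(2 * (i * j))))
        = (5 : F) • 1 := by
      ext i k
      rw [Matrix.mul_apply]
      simp only [Matrix.of_apply]
      rw [Finset.sum_congr rfl fun j _ => show C.ch (2 * (i * j)) * C.ch (-(2 * (j * k))) =
        C.ch (j * (2 * (i - k))) by rw [← C.ch_add]; congr 1; ring, C.sum_ch_mul, Matrix.smul_apply,
        Matrix.one_apply]
      by_cases hik : i = k
      · rw [if_pos (by simp [hik]), if_pos hik, smul_eq_mul, mul_one]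
      · rw [if_neg, if_neg hik, smul_zero]
        revert hik; revert i k; decide
    intro h0
    have := congrArg Matrix.det e
    rw [Matrix.det_mul, h0, zero_mul, Matrix.det_smul, Matrix.det_one, mul_one, ZMod.card] at this
    exact pow_ne_zero _ C.five_ne_zero this.symm
  rw [mul_left_cancel₀ hP h]
  have h5 : (Finset.univ : Finset T5) = {0, 1, 2, 3, 4} := by decide
  rw [h5]
  simp only [Finset.prod_insert, Finset.mem_insert, Finset.mem_singleton, Finset.prod_singleton,
    (by decide : ¬ ((0 : T5) = 1 ∨ (0 : T5) = 2 ∨ (0 : T5) = 3 ∨ (0 : T5) = 4)),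
    (by decide : ¬ ((1 : T5) = 2 ∨ (1 : T5) = 3 ∨ (1 : T5) = 4)),
    (by decide : ¬ ((2 : T5) = 3 ∨ (2 : T5) = 4)), (by decide : ¬ ((3 : T5) = 4)), not_false_eq_true,
    ← C.ch_add]
  exact C.ch_zero

theorem det_f : (C.f : M5).det = 1 := by
  let e : Equiv.Perm T5 := ⟨fun i => 3 * i, fun i => 2 * i, by decide, by decide⟩
  have h : (C.f : M5) = -(e.permMatrix F) := by
    ext i j
    show _ = -(e.toPEquiv.toMatrix i j : F)
    rw [coe_f, PEquiv.toMatrix_apply]
    have : (j ∈ e.toPEquiv i) ↔ i = 2 * j := by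
      simp only [Equiv.toPEquiv_apply, Option.mem_some_iff, e, Equiv.coe_fn_mk]
      revert i j; decide
    by_cases hij : i = 2 * j
    · rw [if_pos hij, if_pos (this.2 hij)]
    · rw [if_neg hij, if_neg (fun h => hij (this.1 h)), neg_zero]
  have hs : Equiv.Perm.sign e = -1 := by decide +kernel
  rw [h, Matrix.det_neg, Matrix.det_permutation, hs, ZMod.card]
  norm_num

theorem det_flip : (C.flip : M5).det = 1 := by
  rw [← C.f_mul_f, Units.val_mul, Matrix.det_mul, C.det_f, one_mul]

theorem flip_W (v : V) : C.flip * C.W v = C.W (-v) * C.flip := by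
  apply Units.ext
  ext i k
  rw [Units.val_mul, Units.val_mul, Matrix.mul_apply, Matrix.mul_apply,
    Finset.sum_eq_single (-i) (fun j _ hj => ?_) (by simp),
    Finset.sum_eq_single (-k) (fun j _ hj => ?_) (by simp)]
  · simp only [coe_W, wMat_apply, coe_flip, Prod.fst_neg, Prod.snd_neg, neg_neg, if_true, neg_mul_neg]
    by_cases h : -i = k + v.1
    · rw [if_pos h, if_pos (by linear_combination -h)]; ring
    · rw [if_neg h, if_neg (fun e => h (by linear_combination -e))]; ring
  · simp [coe_flip, hj]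
  · have : i ≠ -j := fun e => hj (by rw [e, neg_neg])
    simp [coe_flip, this]

theorem u_W (v : V) : C.u * C.W v = sc (C.chU (v.1 * v.1)) * C.W (v.1, v.2 + 2 * v.1) * C.u := by
  apply Units.ext
  ext i k
  simp only [Units.val_mul, coe_sc, coe_chU, Matrix.smul_mul, one_mul, Matrix.smul_apply,
    smul_eq_mul, coe_u, Matrix.diagonal_mul, Matrix.mul_diagonal, coe_W, wMat_apply]
  by_cases h : i = k + v.1
  · rw [if_pos h, if_pos h]
    subst h
    simp only [← C.ch_add]
    congr 1
    ring
  · simp [h]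

theorem u'_W (v : V) : C.u' * C.W v = sc (C.chU (4 * (v.2 * v.2))) * C.W (v.1 + 3 * v.2, v.2) * C.u' := by
  apply Units.ext
  ext i k
  rw [Units.val_mul, Units.val_mul, Units.val_mul, coe_sc, coe_chU, Matrix.smul_mul, one_mul,
    Matrix.mul_apply, Matrix.smul_mul, Matrix.smul_apply, Matrix.mul_apply,
    Finset.sum_eq_single (k + v.1) (fun j _ hj => ?_) (by simp),
    Finset.sum_eq_single (i - (v.1 + 3 * v.2)) (fun j _ hj => ?_) (by simp)]
  · simp only [coe_W, wMat_apply, coe_u', smul_eq_mul, sub_add_cancel, if_true]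
    calc C.η⁻¹ * C.ch ((i - (k + v.1)) * (i - (k + v.1))) * C.ch (v.2 * k)
        = C.η⁻¹ * C.ch ((i - (k + v.1)) * (i - (k + v.1)) + v.2 * k) := by rw [C.ch_add]; ring
      _ = C.η⁻¹ * C.ch (4 * (v.2 * v.2) + (v.2 * (i - (v.1 + 3 * v.2)) +
            (i - (v.1 + 3 * v.2) - k) * (i - (v.1 + 3 * v.2) - k))) := by
          congr 2
          generalize v.1 = a
          generalize v.2 = b
          clear v
          have h5 : (5 : T5) = 0 := rfl
          linear_combination (i * b - a * b - b * k - 2 * b * b) * h5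
      _ = _ := by rw [C.ch_add, C.ch_add]; ring
  · have : i ≠ j + (v.1 + 3 * v.2) := fun e => hj (by rw [e, add_sub_cancel_right])
    simp [coe_W, wMat_apply, this]
  · simp [coe_W, wMat_apply, hj]

theorem f_W (v : V) : C.f * C.W v = C.W (2 * v.1, 3 * v.2) * C.f := by
  apply Units.ext
  ext i k
  rw [Units.val_mul, Units.val_mul, Matrix.mul_apply, Matrix.mul_apply,
    Finset.sum_eq_single (k + v.1) (fun j _ hj => ?_) (by simp),
    Finset.sum_eq_single (2 * k) (fun j _ hj => ?_) (by simp)]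
  · simp only [coe_W, wMat_apply, coe_f, if_true]
    have e : 3 * v.2 * (2 * k) = v.2 * k := by
      have h5 : (5 : T5) = 0 := rfl
      linear_combination (v.2 * k) * h5
    rw [e, show 2 * k + 2 * v.1 = 2 * (k + v.1) by ring]
    by_cases h : i = 2 * (k + v.1)
    · rw [if_pos h, if_pos h]; ring
    · rw [if_neg h, if_neg h]; ring
  · simp [coe_f, hj]
  · simp [coe_W, wMat_apply, hj]

/-- The element lies in the scalar multiples of the Heisenberg group. -/
def InR (g : G5) : Prop := ∃ (c : Fˣ) (v : V), g = sc c * C.W v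

/-- Conjugation by `g` induces `σ` on the Heisenberg group modulo scalars. -/
def Lift (g : G5) (σ : V → V) : Prop := ∀ v, ∃ c : Fˣ, g * C.W v * g⁻¹ = sc c * C.W (σ v)

theorem lift_injective {g : G5} {σ : V → V} (h : C.Lift g σ) : Function.Injective σ := by
  intro u v e
  obtain ⟨c, hc⟩ := h u
  obtain ⟨d, hd⟩ := h v
  have : g * (sc d * C.W u) * g⁻¹ = g * (sc c * C.W v) * g⁻¹ := by
    rw [conj_sc_mul, conj_sc_mul, hc, hd, e, ← mul_assoc, ← mul_assoc, ← sc_mul, ← sc_mul, mul_comm c]
  exact (C.sc_W_inj (mul_left_cancel (mul_right_cancel this))).2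

theorem W_conj (u v : V) :
    C.W u * C.W v * (C.W u)⁻¹ = sc (C.chU (u.2 * v.1 - v.2 * u.1)) * C.W v := by
  rw [mul_inv_eq_iff_eq_mul, mul_assoc, C.W_mul, C.W_mul, ← mul_assoc, ← sc_mul, add_comm v u]
  congr 2
  apply Units.ext
  simp only [Units.val_mul, coe_chU, ← C.ch_add, sub_add_cancel]

/-- An element centralising the Heisenberg group modulo scalars is in it. -/
theorem inR_of_fix {g : G5} (h : C.Lift g id) : C.InR g := by
  have key : ∀ v, ∃ k : T5, g * C.W v * g⁻¹ = sc (C.chU k) * C.W v := by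
    intro v
    obtain ⟨c, hc⟩ := h v
    have h5 := congrArg (· ^ 5) hc
    simp only [id, conj_pow, C.W_five, (show Commute (sc c) (C.W v) from sc_comm c _).mul_pow, sc_pow,
      mul_one, mul_inv_cancel] at h5
    have hc5 : (c : F) ^ 5 = 1 := by
      rw [← Units.val_pow_eq_pow_val, sc_inj (h5.symm.trans sc_one.symm), Units.val_one]
    obtain ⟨i, hi, hci⟩ := C.prim.eq_pow_of_pow_eq_one hc5
    refine ⟨(i : T5), ?_⟩
    rw [show C.chU (i : T5) = c from Units.ext (by
      rw [coe_chU, ch, ZMod.val_natCast, Nat.mod_eq_of_lt hi, hci])]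
    exact hc
  obtain ⟨k, hx⟩ := key (1, 0)
  obtain ⟨l, hz⟩ := key (0, 1)
  set w : V := (-l, k) with hw
  set g' := (C.W w)⁻¹ * g with hg'
  have fix : ∀ (v : V) (m : T5), g * C.W v * g⁻¹ = sc (C.chU m) * C.W v → m = w.2 * v.1 - v.2 * w.1 →
      g' * C.W v = C.W v * g' := by
    intro v m hc hm
    have h1 : g * C.W v * g⁻¹ = C.W w * C.W v * (C.W w)⁻¹ := by rw [C.W_conj, hc, hm]
    calc g' * C.W v = (C.W w)⁻¹ * (g * C.W v * g⁻¹) * g := by rw [hg']; group
      _ = C.W v * g' := by rw [h1, hg']; group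
  have fx := fix _ _ hx (by rw [hw]; ring)
  have fz := fix _ _ hz (by rw [hw]; ring)
  have e1 : ∀ i j, (g' : M5) i (j + 1) = (g' : M5) (i - 1) j := by
    intro i j
    have := congrArg (fun M : G5 => (M : M5) i j) fx
    simp only [Units.val_mul, coe_W, Matrix.mul_apply, wMat_apply, zero_mul, C.ch_zero, mul_ite, ite_mul,
      mul_one, one_mul, mul_zero, Finset.sum_ite_eq', Finset.mem_univ, if_true] at this
    rw [this, Finset.sum_eq_single (i - 1)]
    · simp
    · intro m _ hm
      rw [if_neg]; exact fun e => hm (by rw [e, add_sub_cancel_right])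
    · simp
  have e2 : ∀ i j, i ≠ j → (g' : M5) i j = 0 := by
    intro i j hij
    have := congrArg (fun M : G5 => (M : M5) i j) fz
    simp only [Units.val_mul, coe_W, Matrix.mul_apply, wMat_apply, add_zero, one_mul, mul_ite, ite_mul,
      zero_mul, mul_zero, Finset.sum_ite_eq, Finset.sum_ite_eq', Finset.mem_univ, if_true] at this
    have h' : (g' : M5) i j * (C.ch j - C.ch i) = 0 := by linear_combination this
    exact (mul_eq_zero.1 h').resolve_right (sub_ne_zero.2 fun e => hij (C.ch_inj e).symm)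
  have hd : ∀ i, (g' : M5) i i = (g' : M5) 0 0 := by
    intro i
    rw [← ZMod.natCast_zmod_val i]
    generalize i.val = n
    induction n with
    | zero => simp
    | succ n ih => rw [Nat.cast_succ, e1, add_sub_cancel_right, ih]
  have hne : (g' : M5) 0 0 ≠ 0 := by
    intro h0
    refine g'.ne_zero ?_
    ext i j
    by_cases hij : i = j
    · subst hij; rw [hd, h0]; rfl
    · exact e2 i j hij
  refine ⟨Units.mk0 _ hne, w, ?_⟩
  have : g' = sc (Units.mk0 _ hne) := by
    apply Units.ext
    ext i j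
    rw [coe_sc]
    by_cases hij : i = j
    · subst hij; simp [hd]
    · simp [e2 i j hij, hij]
  rw [sc_comm, ← this, hg', mul_inv_cancel_left]

/-- The element normalises the Heisenberg group modulo scalars. -/
def Normalises (g : G5) : Prop := ∀ v, C.InR (g * C.W v * g⁻¹)

theorem normalises_u : C.Normalises C.u := fun v => ⟨_, _, by rw [C.u_W, mul_inv_cancel_right]⟩
theorem normalises_u' : C.Normalises C.u' := fun v => ⟨_, _, by rw [C.u'_W, mul_inv_cancel_right]⟩
theorem normalises_f : C.Normalises C.f := fun v =>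
  ⟨1, _, by rw [C.f_W, mul_inv_cancel_right, sc_one, one_mul]⟩
theorem normalises_W (u : V) : C.Normalises (C.W u) := fun v => ⟨_, _, C.W_conj u v⟩

/-- The subgroup contains generators of the normaliser. -/
structure ContainsN (M : Subgroup G5) : Prop where
  W : ∀ v, C.W v ∈ M
  u : C.u ∈ M
  u' : C.u' ∈ M
  f : C.f ∈ M
  det : ∀ g ∈ M, (g : M5).det = 1

variable {C}

theorem ContainsN.flip {M : Subgroup G5} (hM : C.ContainsN M) : C.flip ∈ M := by
  rw [← C.f_mul_f]; exact mul_mem hM.f hM.f

theorem ContainsN.chSc {M : Subgroup G5} (hM : C.ContainsN M) (k : T5) : sc (C.chU k) ∈ M := by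
  have h := C.W_conj (0, k) (1, 0)
  have h1 : sc (C.chU (k * 1 - 0 * 0)) = C.W (0, k) * C.W (1, 0) * (C.W (0, k))⁻¹ * (C.W (1, 0))⁻¹ := by
    rw [h, mul_inv_cancel_right]
  rw [mul_one, mul_zero, sub_zero] at h1
  rw [h1]
  exact mul_mem (mul_mem (mul_mem (hM.W _) (hM.W _)) (inv_mem (hM.W _))) (inv_mem (hM.W _))

end Penta

end Cfsg.Agent.H36.SLFiveHeis
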